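import Mathlib.Data.ZMod.Basic
import Mathlib.Algebra.Group.Prod
import Mathlib.SetTheory.Cardinal.Finite
import Mathlib.GroupTheory.Index
import Mathlib.GroupTheory.Coset.Card
import Mathlib.Tactic.Ring
import Mathlib.Algebra.BigOperators.Group.Finset.Sigma

/-!
# Linear maps of the four-group
-/

set_option autoImplicit false

namespace Cfsg.Lib.MacWilliams

/-- the four-group, additively -/
abbrev K4 : Type := ZMod 2 × ZMod 2

/-- linear maps of `K4`, by the images of the two basis vectors -/
abbrev M4 : Type := K4 × K4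

/-- apply a map to a vector -/
def app (e : M4) (v : K4) : K4 :=
  (v.1 * e.1.1 + v.2 * e.2.1, v.1 * e.1.2 + v.2 * e.2.2)

theorem app_ext : ∀ e f : M4, (∀ v, app e v = app f v) → e = f := fun e f h => by
  have h1 := h (1, 0)
  have h2 := h (0, 1)
  simp only [app, one_mul, zero_mul, add_zero, zero_add, Prod.mk.injEq] at h1 h2
  exact Prod.ext (Prod.ext h1.1 h1.2) (Prod.ext h2.1 h2.2)

theorem app_zero (v : K4) : app 0 v = 0 := by simp [app]

theorem app_add (e f : M4) (v : K4) : app (e + f) v = app e v + app f v := by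
  simp only [app, Prod.fst_add, Prod.snd_add, Prod.mk_add_mk]
  congr 1 <;> ring

theorem neg_eq4 : ∀ X : M4, -X = X := by decide +kernel

theorem app_vadd (e : M4) (v w : K4) : app e (v + w) = app e v + app e w := by
  simp only [app, Prod.fst_add, Prod.snd_add, Prod.mk_add_mk]
  congr 1 <;> ring

/-- the identity map -/
def one4 : M4 := ((1, 0), (0, 1))

theorem app_one4 (v : K4) : app one4 v = v := by simp [app, one4]

/-- nonzero, and with no fixed nonzero vector -/
def Good (X : M4) : Prop := X ≠ 0 ∧ ∀ v, app X v = v → v = 0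

instance (X : M4) : Decidable (Good X) := by unfold Good; infer_instance

/-- an involution on `K4` -/
def Invo (s : M4) : Prop := s ≠ one4 ∧ ∀ v, app s (app s v) = v

instance (s : M4) : Decidable (Invo s) := by unfold Invo; infer_instance

theorem invo_or_cube : ∀ s : M4, (∀ v, app s v = 0 → v = 0) →
    (∀ v, app s (app s v) = v) ∨ (∀ v, app s (app s (app s v)) = v) := by decide +kernel

theorem two_invo : ∀ s t : M4, Invo s → Invo t →
    (∀ v, app s (app t (app s (app t v))) = v) → s = t := by decide +kernel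

theorem invo_shift : ∀ s : M4, Invo s →
    Good (one4 + s) ∧ ∀ v, app s (app (one4 + s) v) = app (one4 + s) (app s v) := by decide +kernel

/-- the maps commuting with `s` -/
def Fix (s : M4) : Finset M4 := Finset.univ.filter fun X => ∀ v, app s (app X v) = app X (app s v)

theorem mem_Fix {s X : M4} : X ∈ Fix s ↔ ∀ v, app s (app X v) = app X (app s v) := by simp [Fix]

theorem card_Fix : ∀ s : M4, Invo s → (Fix s).card = 4 := by decide +kernel

/-- the map of order three -/
def zee : M4 := ((0, 1), (1, 1))

/-- its square -/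
def zee2 : M4 := ((1, 1), (1, 0))

theorem zee_facts : Good zee ∧ Good zee2 ∧ zee + zee2 = one4 ∧
    (∀ v, app zee v = 0 → v = 0) ∧ (∀ v, app zee2 v = 0 → v = 0) := by decide +kernel

/-- three nilpotents -/
def nil0 : M4 := ((0, 0), (1, 0))
/-- three nilpotents -/
def nil1 : M4 := ((0, 1), (0, 0))
/-- three nilpotents -/
def nil2 : M4 := ((1, 1), (1, 1))

theorem nil_facts : Good nil0 ∧ Good nil1 ∧ Good nil2 ∧ nil0 + nil1 + nil2 = zee + zee2 := by decide +kernel

theorem add_mem_of_card {M : AddSubgroup M4} (hM : Nat.card M = 8) {a b : M4} (ha : a ∉ M) (hb : b ∉ M) :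
    a + b ∈ M := by
  have hi : M.index = 2 := by
    have h := AddSubgroup.card_mul_index M
    rw [hM, show Nat.card M4 = 16 by simp [Nat.card_eq_fintype_card]] at h
    omega
  exact (AddSubgroup.add_mem_iff_of_index_two hi).2 ⟨fun h => absurd h ha, fun h => absurd h hb⟩

theorem exists_good {M : AddSubgroup M4} (hM : Nat.card M = 8) : ∃ X ∈ M, Good X := by
  obtain ⟨gz, gz2, -, -, -⟩ := zee_facts
  obtain ⟨g0, g1, g2, hsum⟩ := nil_facts
  by_contra h
  push Not at h
  have a0 : nil0 ∉ M := fun m => h _ m g0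
  have a1 : nil1 ∉ M := fun m => h _ m g1
  have a2 : nil2 ∉ M := fun m => h _ m g2
  have h01 := add_mem_of_card hM a0 a1
  have hz := add_mem_of_card hM (fun m => h _ m gz) (fun m => h _ m gz2)
  rw [← hsum] at hz
  exact a2 (by have h := M.add_mem (M.neg_mem h01) hz; rwa [neg_add_cancel_left] at h)

theorem shift_mem {M : AddSubgroup M4} (hM : Nat.card M = 8) {s : M4} (hs : Invo s)
    (hinv : ∀ X ∈ M, ∃ Y ∈ M, ∀ v, app Y v = app s (app X (app s v))) : one4 + s ∈ M := by
  by_contra hmem
  classical
  choose! tw htw hY using hinv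
  have hX0 : one4 + s ∈ Fix s := mem_Fix.2 (invo_shift s hs).2
  set F := M ⊓
    ({ carrier := {X | ∀ v, app s (app X v) = app X (app s v)}
       zero_mem' := fun v => by simp [app]
       add_mem' := fun {X Y} hX hY v => by
        rw [app_add, app_add, ← hX, ← hY, app_vadd]
       neg_mem' := fun {X} hX v => by rw [neg_eq4]; exact hX v } : AddSubgroup M4) with hF
  let f : M → F := fun X => ⟨X.1 + tw X.1, M.add_mem X.2 (htw X.1 X.2), fun v => by
    rw [app_add, app_add, hY X.1 X.2, hY X.1 X.2, hs.2 v, app_vadd, hs.2, add_comm]⟩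
  have hFle : Nat.card F ≤ 2 := by
    have h4 : Nat.card {X // X ∈ Fix s} = 4 := by rw [Nat.card_eq_fintype_card, Fintype.card_coe, card_Fix s hs]
    have hlt : Nat.card F < 4 := by
      rw [← h4]
      let g : F → {X // X ∈ Fix s} := fun X => ⟨X.1, mem_Fix.2 X.2.2⟩
      have hg : Function.Injective g := fun a b h => Subtype.ext (congrArg Subtype.val h :)
      refine lt_of_le_of_ne (Nat.card_le_card_of_injective g hg) (fun he => ?_)
      obtain ⟨X, hX⟩ := ((Nat.bijective_iff_injective_and_card g).2 ⟨hg, he⟩).2 ⟨one4 + s, hX0⟩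
      have hX' : X.1 = one4 + s := congrArg Subtype.val hX
      exact hmem (hX' ▸ X.2.1)
    have hd := AddSubgroup.card_dvd_of_le (inf_le_left : F ≤ M)
    rw [hM] at hd
    rcases Nat.lt_or_ge (Nat.card F) 3 with h | h
    · omega
    · exfalso; obtain ⟨k, hk⟩ := hd; have h3 : Nat.card F = 3 := by omega
      rw [h3] at hk
      omega
  have hfib : ∀ Y : F, Nat.card {X : M // f X = Y} ≤ Nat.card F := by
    intro Y
    rcases isEmpty_or_nonempty {X : M // f X = Y} with he | ⟨⟨X0, hX0'⟩⟩
    · rw [Nat.card_of_isEmpty]; exact Nat.zero_le _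
    · refine Nat.card_le_card_of_injective
        (fun X : {X : M // f X = Y} => (⟨X.1.1 + X0.1, M.add_mem X.1.2 X0.2, fun v => ?_⟩ : F)) ?_
      · have h := congrArg Subtype.val (X.2.trans hX0'.symm)
        have h' := congrArg (fun Z => app Z (app s v)) h
        simp only [f, app_add, hY _ X.1.2, hY _ X0.2, hs.2 v] at h'
        rw [app_add, app_add]
        have e : ∀ a b c d : K4, a + c = b + d → c + d = a + b := by decide
        rw [app_vadd]
        exact e _ _ _ _ h'
      · intro a b h
        exact Subtype.ext (Subtype.ext (add_right_cancel (congrArg Subtype.val h)))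
  have hcount : Nat.card M ≤ Nat.card F * Nat.card F := by
    rw [Nat.card_congr (Equiv.sigmaFiberEquiv f).symm, Nat.card_sigma]
    refine (Finset.sum_le_card_nsmul _ _ _ fun Y _ => hfib Y).trans (le_of_eq ?_)
    rw [Finset.card_univ, Nat.card_eq_fintype_card, smul_eq_mul]
  rw [hM] at hcount
  have : Nat.card F * Nat.card F ≤ 2 * 2 := Nat.mul_le_mul hFle hFle
  omega

end Cfsg.Lib.MacWilliams
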