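import Cfsg.Agent.Lib.MacWilliams.PCentral
import Cfsg.Agent.Lib.MacWilliams.Mat
import Mathlib.GroupTheory.SpecificGroups.KleinFour
import Mathlib.Algebra.Group.TypeTags.Finite

/-!
# MacWilliams: 2-groups without normal elementary abelian subgroups of order eight

Every section of such a group has rank at most four.
-/

set_option autoImplicit false
set_option linter.style.haveILetI false

namespace Cfsg.Lib.MacWilliams

open Subgroup
open scoped Pointwise

universe u

theorem pow_facts {e f : ℕ} (he : ∃ a, e = 2 ^ a) (hf : ∃ b, f = 2 ^ b) (he16 : e ≤ 16) (hf4 : f ≤ 4)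
    (h : 16 < f * e) : (e = 8 ∧ f = 4) ∨ e = 16 := by
  obtain ⟨a, rfl⟩ := he
  obtain ⟨b, rfl⟩ := hf
  have ha : a ≤ 4 := (Nat.pow_le_pow_iff_right (le_refl 2)).1 (show 2 ^ a ≤ 2 ^ 4 from he16)
  have hb : b ≤ 2 := (Nat.pow_le_pow_iff_right (le_refl 2)).1 (show 2 ^ b ≤ 2 ^ 2 from hf4)
  interval_cases a <;> interval_cases b <;> simp_all

variable {P : Type u} [Group P] [Finite P] (A : Subgroup P) (hAc : ∀ a ∈ A, ∀ b ∈ A, a * b = b * a)

/-- the elements of `A` squaring to one -/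
def sqW : Subgroup P where
  carrier := {a | a ∈ A ∧ a ^ 2 = 1}
  one_mem' := ⟨one_mem A, one_pow 2⟩
  mul_mem' {a b} ha hb := ⟨mul_mem ha.1 hb.1, by
    rw [Commute.mul_pow (hAc a ha.1 b hb.1), ha.2, hb.2, one_mul]⟩
  inv_mem' {a} ha := ⟨inv_mem ha.1, by rw [inv_pow, ha.2, inv_one]⟩

theorem mem_sqW {a : P} : a ∈ sqW A hAc ↔ a ∈ A ∧ a ^ 2 = 1 := Iff.rfl

theorem centralizer_normal (B : Subgroup P) [hB : B.Normal] : (centralizer (B : Set P)).Normal := by
  refine ⟨fun c hc g => mem_centralizer_iff.2 fun a ha => ?_⟩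
  have h := mem_centralizer_iff.1 hc (g⁻¹ * a * g⁻¹⁻¹) (hB.conj_mem a ha g⁻¹)
  rw [inv_inv] at h
  calc a * (g * c * g⁻¹) = g * ((g⁻¹ * a * g) * c) * g⁻¹ := by group
    _ = g * (c * (g⁻¹ * a * g)) * g⁻¹ := by rw [h]
    _ = g * c * g⁻¹ * a := by group

theorem sqW_normal [hA : A.Normal] : (sqW A hAc).Normal :=
  ⟨fun a ha g => ⟨hA.conj_mem a ha.1 g, by rw [conj_pow, ha.2, mul_one, mul_inv_cancel]⟩⟩

/-- A normal subgroup of order at most four is centralized by a subgroup of index at most two. -/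
theorem centralizer_index (hP : IsPGroup 2 P) (B : Subgroup P) [hB : B.Normal] (h4 : Nat.card B ≤ 4) :
    (centralizer (B : Set P)).index ≤ 2 := by
  classical
  haveI : Fact (Nat.Prime 2) := ⟨Nat.prime_two⟩
  let f : P →* Equiv.Perm {b : B // b ≠ 1} :=
    { toFun := fun g => Equiv.Perm.subtypePerm (MulAut.conjNormal g : B ≃* B).toEquiv (fun b => by simp)
      map_one' := by ext b; simp
      map_mul' := fun g h => by ext b; simp [map_mul] }
  have hker : f.ker = centralizer (B : Set P) := by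
    ext g
    rw [MonoidHom.mem_ker, mem_centralizer_iff]
    constructor
    · intro h b hb
      by_cases hb1 : b = 1
      · rw [hb1, one_mul, mul_one]
      · have := congrArg (fun e : Equiv.Perm {b : B // b ≠ 1} => ((e ⟨⟨b, hb⟩, fun e' => hb1 (congrArg Subtype.val e')⟩).1 : P)) h
        simp [f] at this
        exact (mul_inv_eq_iff_eq_mul.1 this).symm
    · intro h
      ext b
      simp [f, ← h (b.1 : P) b.1.2]
  obtain ⟨k, hk⟩ := hP.index f.ker
  rw [← hker]
  have hd : f.ker.index ∣ Nat.card (Equiv.Perm {b : B // b ≠ 1}) := by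
    rw [index_ker]; exact Subgroup.card_subgroup_dvd_card _
  have hsix : Nat.card (Equiv.Perm {b : B // b ≠ 1}) ∣ 6 := by
    haveI : Fintype B := Fintype.ofFinite B
    rw [Nat.card_eq_fintype_card, Fintype.card_perm, Fintype.card_subtype_compl, Fintype.card_subtype_eq,
      ← Nat.card_eq_fintype_card]
    exact Nat.factorial_dvd_factorial (show Nat.card B - 1 ≤ 3 by omega)
  have h6 := hd.trans hsix
  rw [hk] at h6 ⊢
  rcases Nat.lt_or_ge k 2 with h | h
  · exact le_trans (Nat.pow_le_pow_right (by norm_num) (Nat.le_of_lt_succ h)) le_rfl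
  · exfalso
    have : 2 ^ 2 ∣ 6 := (pow_dvd_pow 2 h).trans h6
    norm_num at this

theorem centralizer_anti_mem {B D : Subgroup P} (h : B ≤ D) {c : P} (hc : c ∈ centralizer (D : Set P)) :
    c ∈ centralizer (B : Set P) := mem_centralizer_iff.2 fun b hb => mem_centralizer_iff.1 hc b (h hb)

section split

variable (hP : IsPGroup 2 P) [hAn : A.Normal]
  (homega : ∀ x ∈ centralizer (A : Set P), x ^ 4 = 1 → x ∈ A)

include hP homega

theorem split (hW : Nat.card (sqW A hAc) ≤ 4) (L : Subgroup P) (N : Subgroup L) [N.Normal]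
    (hsq : ∀ x : L, x ^ 2 ∈ N) :
    ∃ e f, N.index = f * e ∧ f ≤ 4 ∧ e ≤ (centralizer (A : Set P)).relIndex L ∧
      f = N.relIndex ((centralizer (A : Set P)).subgroupOf L) ∧
      (∃ a, e = 2 ^ a) ∧ (∃ b, f = 2 ^ b) ∧
      (e = (centralizer (A : Set P)).relIndex L → N ≤ (centralizer (A : Set P)).subgroupOf L) := by
  haveI : Fact (Nat.Prime 2) := ⟨Nat.prime_two⟩
  haveI := centralizer_normal A
  set D := (centralizer (A : Set P)).subgroupOf L with hD
  refine ⟨(D ⊔ N).index, N.relIndex D, ?_, ?_, ?_, rfl, (hP.to_subgroup L).index _, ?_, ?_⟩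
  · rw [← relIndex_mul_index (le_sup_right : N ≤ D ⊔ N), relIndex_sup_right]
  · refine relIndex_le (hP.to_subgroup L) ?_ (fun x _ => hsq x) ?_
    · intro x hx hx4 y hy
      have hxA : (x : P) ∈ A := homega _ hx (by rw [← SubmonoidClass.coe_pow, hx4, OneMemClass.coe_one])
      exact Subtype.ext (mem_centralizer_iff.1 hy _ hxA)
    · refine le_trans (Nat.card_le_card_of_injective
        (fun x : {x : D // x ^ 2 = 1} => (⟨((x.1 : L) : P), ?_⟩ : sqW A hAc)) ?_) hW
      · have h2 : (((x.1 : L) : P)) ^ 2 = 1 := by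
          have := congrArg (fun z : D => ((z : L) : P)) x.2
          simpa using this
        exact ⟨homega _ x.1.2 (by rw [show 4 = 2 * 2 from rfl, pow_mul, h2, one_pow]), h2⟩
      · intro x y h
        exact Subtype.ext (Subtype.ext (Subtype.ext (congrArg Subtype.val h :)))
  · exact Nat.le_of_dvd (Nat.pos_of_ne_zero index_ne_zero_of_finite) (index_dvd_of_le le_sup_left)
  · rw [← relIndex_sup_right (H := D) (K := N)]
    exact ((hP.to_subgroup L).to_subgroup (D ⊔ N)).index _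
  · intro h
    change (D ⊔ N).index = D.index at h
    have h1 := relIndex_mul_index (le_sup_left : D ≤ D ⊔ N)
    have h2 : D.relIndex (D ⊔ N) = 1 := by
      rw [h] at h1
      exact Nat.eq_of_mul_eq_mul_right (Nat.pos_of_ne_zero index_ne_zero_of_finite) (by rw [h1, one_mul])
    exact le_sup_right.trans (relIndex_eq_one.1 h2)

/-- The case of a small squaring image. -/
theorem small_case (hW : Nat.card (sqW A hAc) ≤ 4) (a0 : P) (ha0 : a0 ∈ A)
    (hA4 : ∀ a ∈ A, a ^ 4 = 1)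
    (hgen : ∀ a ∈ A, a ∈ sqW A hAc ∨ a0⁻¹ * a ∈ sqW A hAc)
    (hi : (centralizer (sqW A hAc : Set P)).index ≤ 2)
    (L : Subgroup P) (N : Subgroup L) [N.Normal] (hsq : ∀ x : L, x ^ 2 ∈ N) : N.index ≤ 16 := by
  haveI : Fact (Nat.Prime 2) := ⟨Nat.prime_two⟩
  haveI := centralizer_normal A
  haveI := sqW_normal A hAc
  set W := sqW A hAc with hWdef
  set C := centralizer (A : Set P)
  set G0 := centralizer (W : Set P)
  obtain ⟨e, f, hN, hf, he, -, hae, haf, hND⟩ := split A hAc hP homega hW L N hsq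
  by_contra hbig
  push Not at hbig
  -- the map `g ↦ [g, a0]`
  have hmem : ∀ g ∈ G0, g * a0 * g⁻¹ * a0⁻¹ ∈ W := by
    intro g hg
    refine ⟨mul_mem (hAn.conj_mem a0 ha0 g) (inv_mem ha0), ?_⟩
    have h2 : g * (a0 ^ 2) * g⁻¹ = a0 ^ 2 := by
      have : a0 ^ 2 ∈ W := ⟨pow_mem ha0 2, by rw [← pow_mul]; exact hA4 _ ha0⟩
      rw [← mem_centralizer_iff.1 hg _ this, mul_inv_cancel_right]
    rw [Commute.mul_pow (hAc _ (hAn.conj_mem a0 ha0 g) _ (inv_mem ha0)), conj_pow, h2, inv_pow, mul_inv_cancel]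
  have hWA : W ≤ A := fun w hw => hw.1
  have hCeq : ∀ g ∈ G0, g * a0 * g⁻¹ * a0⁻¹ = 1 → g ∈ C := by
    intro g hg h1
    rw [mul_inv_eq_one] at h1
    refine mem_centralizer_iff.2 fun a ha => ?_
    rcases hgen a ha with h | h
    · exact mem_centralizer_iff.1 hg a h
    · have h0 : a0 * g = g * a0 := by rw [← mul_inv_eq_iff_eq_mul.1 h1]
      have h3 := mem_centralizer_iff.1 hg _ h
      calc a * g = a0 * ((a0⁻¹ * a) * g) := by group
        _ = a0 * g * (a0⁻¹ * a) := by rw [h3, mul_assoc]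
        _ = g * a := by rw [h0]; group
  have hinj : ∀ g ∈ G0, ∀ g' ∈ G0, g * a0 * g⁻¹ * a0⁻¹ = g' * a0 * g'⁻¹ * a0⁻¹ → g⁻¹ * g' ∈ C := by
    intro g hg g' hg' h
    refine hCeq _ (mul_mem (inv_mem hg) hg') ?_
    have h' : g' * a0 * g'⁻¹ = g * a0 * g⁻¹ := (mul_right_cancel h).symm
    rw [mul_inv_eq_one]
    calc g⁻¹ * g' * a0 * (g⁻¹ * g')⁻¹ = g⁻¹ * (g' * a0 * g'⁻¹) * g := by group
      _ = a0 := by rw [h']; group
  -- the image of `L ⊓ G0`
  let q : (↥(G0.subgroupOf L) ⧸ ((C.subgroupOf L).subgroupOf (G0.subgroupOf L))) → W := fun x =>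
    ⟨((x.out : L) : P) * a0 * ((x.out : L) : P)⁻¹ * a0⁻¹, hmem _ (x.out).2⟩
  have hq : Function.Injective q := by
    intro x y h
    rw [← x.out_eq', ← y.out_eq', QuotientGroup.eq]
    exact hinj _ x.out.2 _ y.out.2 (congrArg Subtype.val h :)
  have h4 : (C.subgroupOf L).relIndex (G0.subgroupOf L) ≤ 4 :=
    le_trans (Nat.card_le_card_of_injective q hq) hW
  have hCG : C.subgroupOf L ≤ G0.subgroupOf L := fun x hx => centralizer_anti_mem hWA hx
  have hprod := relIndex_mul_index hCG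
  have hG0L : (G0.subgroupOf L).index ≤ 2 := by
    haveI := centralizer_normal W
    exact le_trans (Nat.le_of_dvd (Nat.pos_of_ne_zero index_ne_zero_of_finite) (relIndex_dvd_index_of_normal G0 L)) hi
  change e ≤ (C.subgroupOf L).index at he
  change e = (C.subgroupOf L).index → N ≤ C.subgroupOf L at hND
  have hle := Nat.mul_le_mul h4 hG0L
  rw [hprod] at hle
  have hfe := pow_facts hae haf (by omega) hf (hN ▸ hbig)
  have he8 : e = 8 ∧ f = 4 := hfe.resolve_right (by omega)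
  have hN' := hND (by omega)
  have hidx : (C.subgroupOf L).index = 8 := by omega
  rw [hidx] at hprod
  have hG2 : (G0.subgroupOf L).index = 2 := by
    rcases Nat.lt_or_ge (G0.subgroupOf L).index 2 with h | h
    · exfalso; have h1 : (G0.subgroupOf L).index = 1 := by
        have : (G0.subgroupOf L).index ≠ 0 := index_ne_zero_of_finite
        omega
      rw [h1] at hprod; omega
    · omega
  rw [hG2] at hprod
  have hq4 : Nat.card W ≤ (C.subgroupOf L).relIndex (G0.subgroupOf L) := by omega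
  have hbij := (Nat.bijective_iff_injective_and_card q).2
    ⟨hq, le_antisymm (Nat.card_le_card_of_injective q hq) hq4⟩
  obtain ⟨s, hs⟩ : ∃ s : L, s ∉ G0.subgroupOf L := by
    by_contra h
    push Not at h
    rw [(eq_top_iff' _).2 h, index_top] at hG2
    omega
  refine hs (mem_centralizer_iff.2 fun w hw => ?_)
  obtain ⟨x, hx⟩ := hbij.2 ⟨w, hw⟩
  have hxw : ((x.out : L) : P) * a0 * ((x.out : L) : P)⁻¹ * a0⁻¹ = w := congrArg Subtype.val hx
  set g : L := (x.out : L) with hg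
  have hgG : (g : P) ∈ G0 := x.out.2
  have hsgC : ((g : P))⁻¹ * (s * g * (s : P)⁻¹) ∈ C := by
    have h : g⁻¹ * (s * g * s⁻¹) ∈ N := by
      have e1 : g⁻¹ * (s * g * s⁻¹) = (g⁻¹) ^ 2 * (g * s) ^ 2 * (s⁻¹) ^ 2 := by
        simp only [pow_two]; group
      rw [e1]
      exact mul_mem (mul_mem (hsq _) (hsq _)) (hsq _)
    exact hN' h
  have hwa : ∀ a ∈ A, ∀ k ∈ G0, a0⁻¹ * a ∈ W → k * a * k⁻¹ * a⁻¹ = k * a0 * k⁻¹ * a0⁻¹ := by
    intro a ha k hk h
    have h3 := mem_centralizer_iff.1 hk _ h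
    calc k * a * k⁻¹ * a⁻¹ = k * a0 * ((a0⁻¹ * a) * k⁻¹) * a⁻¹ := by group
      _ = k * a0 * (k⁻¹ * (a0⁻¹ * a)) * a⁻¹ := by
        rw [mem_centralizer_iff.1 (inv_mem hk) _ h]
      _ = k * a0 * k⁻¹ * a0⁻¹ := by group
  have hsa : (s : P) * a0 * (s : P)⁻¹ ∈ A := hAn.conj_mem a0 ha0 s
  rcases hgen _ hsa with hcase | hcase
  · -- then `a0 ∈ W`, so `w = 1`
    have h0 : a0 ∈ W := by
      have := (sqW_normal A hAc).conj_mem _ hcase (s : P)⁻¹
      have e1 : (s : P)⁻¹ * ((s : P) * a0 * (s : P)⁻¹) * (s : P)⁻¹⁻¹ = a0 := by group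
      rwa [e1] at this
    rw [← mem_centralizer_iff.1 hgG a0 h0, mul_inv_cancel_right, mul_inv_cancel] at hxw
    rw [← hxw, one_mul, mul_one]
  · set k := (s : P) * g * (s : P)⁻¹ with hk
    have hkG : k ∈ G0 := (centralizer_normal W).conj_mem _ hgG s
    have h1 : (s : P) * w * (s : P)⁻¹ = k * a0 * k⁻¹ * a0⁻¹ := by
      rw [← hwa _ hsa k hkG hcase, ← hxw, hk]; group
    have h2 : k * a0 * k⁻¹ = (g : P) * a0 * (g : P)⁻¹ := by
      have hc := mem_centralizer_iff.1 hsgC a0 ha0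
      calc k * a0 * k⁻¹ = (g : P) * (((g : P)⁻¹ * k) * a0) * k⁻¹ := by group
        _ = (g : P) * (a0 * ((g : P)⁻¹ * k)) * k⁻¹ := by rw [hc]
        _ = _ := by group
    rw [h2, hxw, mul_inv_eq_iff_eq_mul] at h1
    exact h1.symm

end split

section big

variable [hAn : A.Normal] (hP : IsPGroup 2 P)
  (homega : ∀ x ∈ centralizer (A : Set P), x ^ 4 = 1 → x ∈ A)
  (hA4 : ∀ a ∈ A, a ^ 4 = 1)
  (ι : sqW A hAc ≃* Multiplicative K4)
  (hsurj : ∀ w ∈ sqW A hAc, ∃ a ∈ A, a ^ 2 = w)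

open Classical in
/-- coordinates on `sqW` -/
noncomputable def co (x : P) : K4 :=
  if h : x ∈ sqW A hAc then Multiplicative.toAdd (ι ⟨x, h⟩) else 0

theorem co_mul {x y : P} (hx : x ∈ sqW A hAc) (hy : y ∈ sqW A hAc) :
    co A hAc ι (x * y) = co A hAc ι x + co A hAc ι y := by
  rw [co, co, co, dif_pos hx, dif_pos hy, dif_pos (mul_mem hx hy), ← toAdd_mul, ← map_mul]
  rfl

theorem co_one : co A hAc ι 1 = 0 := by
  rw [co, dif_pos (one_mem _)]
  exact congrArg Multiplicative.toAdd (map_one ι)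

theorem co_inj {x y : P} (hx : x ∈ sqW A hAc) (hy : y ∈ sqW A hAc)
    (h : co A hAc ι x = co A hAc ι y) : x = y := by
  rw [co, co, dif_pos hx, dif_pos hy] at h
  exact congrArg Subtype.val (ι.injective (Multiplicative.toAdd.injective h))

theorem exists_co (v : K4) : ∃ x ∈ sqW A hAc, co A hAc ι x = v := by
  refine ⟨(ι.symm (Multiplicative.ofAdd v) : P), (ι.symm _).2, ?_⟩
  rw [co, dif_pos (ι.symm _).2]
  simp

theorem co_eq_zero {x : P} (hx : x ∈ sqW A hAc) (h : co A hAc ι x = 0) : x = 1 :=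
  co_inj A hAc ι hx (one_mem _) (h.trans (co_one A hAc ι).symm)

include hA4 in
theorem comm_mem {g : P} (hg : g ∈ centralizer (sqW A hAc : Set P)) {a : P} (ha : a ∈ A) :
    g * a * g⁻¹ * a⁻¹ ∈ sqW A hAc := by
  refine ⟨mul_mem (hAn.conj_mem a ha g) (inv_mem ha), ?_⟩
  have h2 : g * (a ^ 2) * g⁻¹ = a ^ 2 := by
    have : a ^ 2 ∈ sqW A hAc := ⟨pow_mem ha 2, by rw [← pow_mul]; exact hA4 _ ha⟩
    rw [← mem_centralizer_iff.1 hg _ this, mul_inv_cancel_right]
  rw [Commute.mul_pow (hAc _ (hAn.conj_mem a ha g) _ (inv_mem ha)), conj_pow, h2, inv_pow, mul_inv_cancel]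

/-- square roots of the coordinate vectors -/
noncomputable def root (v : K4) : P :=
  (hsurj _ (exists_co A hAc ι v).choose_spec.1).choose

theorem root_mem (v : K4) : root A hAc ι hsurj v ∈ A :=
  (hsurj _ (exists_co A hAc ι v).choose_spec.1).choose_spec.1

theorem co_root (v : K4) : co A hAc ι ((root A hAc ι hsurj v) ^ 2) = v := by
  rw [root, (hsurj _ (exists_co A hAc ι v).choose_spec.1).choose_spec.2]
  exact (exists_co A hAc ι v).choose_spec.2

/-- the action on `A / sqW` followed by the squaring identification -/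
noncomputable def mu (g : P) : M4 :=
  (co A hAc ι (g * root A hAc ι hsurj (1, 0) * g⁻¹ * (root A hAc ι hsurj (1, 0))⁻¹),
   co A hAc ι (g * root A hAc ι hsurj (0, 1) * g⁻¹ * (root A hAc ι hsurj (0, 1))⁻¹))

/-- the action on `sqW` -/
noncomputable def sig (h : P) : M4 :=
  (co A hAc ι (h * root A hAc ι hsurj (1, 0) ^ 2 * h⁻¹),
   co A hAc ι (h * root A hAc ι hsurj (0, 1) ^ 2 * h⁻¹))

theorem k4_cases : ∀ v : K4, v = 0 ∨ v = (1, 0) ∨ v = (0, 1) ∨ v = (1, 0) + (0, 1) := by decide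

include hA4 in
theorem app_mu {g : P} (hg : g ∈ centralizer (sqW A hAc : Set P)) {a : P} (ha : a ∈ A) :
    app (mu A hAc ι hsurj g) (co A hAc ι (a ^ 2)) = co A hAc ι (g * a * g⁻¹ * a⁻¹) := by
  have hsqm : ∀ x ∈ A, x ^ 2 ∈ sqW A hAc := fun x hx =>
    ⟨pow_mem hx 2, by rw [← pow_mul]; exact hA4 _ hx⟩
  have key : ∀ x ∈ A, ∀ y ∈ A, co A hAc ι (g * (x * y) * g⁻¹ * (x * y)⁻¹)
      = co A hAc ι (g * x * g⁻¹ * x⁻¹) + co A hAc ι (g * y * g⁻¹ * y⁻¹) := by
    intro x hx y hy
    rw [← co_mul A hAc ι (comm_mem A hAc hA4 hg hx) (comm_mem A hAc hA4 hg hy)]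
    congr 1
    have h := hAc (g * y * g⁻¹ * y⁻¹) (mul_mem (hAn.conj_mem y hy g) (inv_mem hy)) x⁻¹ (inv_mem hx)
    calc g * (x * y) * g⁻¹ * (x * y)⁻¹ = g * x * g⁻¹ * ((g * y * g⁻¹ * y⁻¹) * x⁻¹) := by group
      _ = g * x * g⁻¹ * (x⁻¹ * (g * y * g⁻¹ * y⁻¹)) := by rw [h]
      _ = _ := by group
  have hW0 : ∀ x ∈ A, co A hAc ι (x ^ 2) = 0 → co A hAc ι (g * x * g⁻¹ * x⁻¹) = 0 := by
    intro x hx h
    have hxW : x ∈ sqW A hAc := ⟨hx, co_eq_zero A hAc ι (hsqm x hx) h⟩
    rw [← mem_centralizer_iff.1 hg x hxW, mul_inv_cancel_right, mul_inv_cancel, co_one]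
  have uniq : ∀ x ∈ A, ∀ y ∈ A, co A hAc ι (x ^ 2) = co A hAc ι (y ^ 2) →
      co A hAc ι (g * x * g⁻¹ * x⁻¹) = co A hAc ι (g * y * g⁻¹ * y⁻¹) := by
    intro x hx y hy h
    have hxy : (y⁻¹ * x) ^ 2 = 1 := by
      rw [Commute.mul_pow (hAc _ (inv_mem hy) _ hx), co_inj A hAc ι (hsqm x hx) (hsqm y hy) h, inv_pow,
        inv_mul_cancel]
    have h' := key y hy (y⁻¹ * x) (mul_mem (inv_mem hy) hx)
    rw [hW0 (y⁻¹ * x) (mul_mem (inv_mem hy) hx) (by rw [hxy, co_one]), add_zero, mul_inv_cancel_left] at h'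
    exact h'
  have hr := root_mem A hAc ι hsurj
  rcases k4_cases (co A hAc ι (a ^ 2)) with h | h | h | h
  · rw [hW0 a ha h, h]
    simp [app]
  · rw [uniq a ha _ (hr (1, 0)) (h.trans (co_root A hAc ι hsurj _).symm), h]
    simp [app, mu]
  · rw [uniq a ha _ (hr (0, 1)) (h.trans (co_root A hAc ι hsurj _).symm), h]
    simp [app, mu]
  · have hr2 : co A hAc ι ((root A hAc ι hsurj (1, 0) * root A hAc ι hsurj (0, 1)) ^ 2) = (1, 0) + (0, 1) := by
      rw [Commute.mul_pow (hAc _ (hr _) _ (hr _)), co_mul A hAc ι (hsqm _ (hr _)) (hsqm _ (hr _)),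
        co_root, co_root]
    rw [uniq a ha _ (mul_mem (hr (1, 0)) (hr (0, 1))) (h.trans hr2.symm), key _ (hr _) _ (hr _), h]
    simp [app, mu, Prod.ext_iff]

include hA4 in
theorem mu_mul {g h : P} (hg : g ∈ centralizer (sqW A hAc : Set P)) (hh : h ∈ centralizer (sqW A hAc : Set P)) :
    mu A hAc ι hsurj (g * h) = mu A hAc ι hsurj g + mu A hAc ι hsurj h := by
  have key : ∀ v, co A hAc ι (g * h * root A hAc ι hsurj v * (g * h)⁻¹ * (root A hAc ι hsurj v)⁻¹)
      = co A hAc ι (g * root A hAc ι hsurj v * g⁻¹ * (root A hAc ι hsurj v)⁻¹)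
        + co A hAc ι (h * root A hAc ι hsurj v * h⁻¹ * (root A hAc ι hsurj v)⁻¹) := by
    intro v
    set a := root A hAc ι hsurj v
    have ha : a ∈ A := root_mem A hAc ι hsurj v
    have m1 := comm_mem A hAc hA4 hg ha
    have m2 := comm_mem A hAc hA4 hh ha
    rw [add_comm, ← co_mul A hAc ι m2 m1]
    congr 1
    calc g * h * a * (g * h)⁻¹ * a⁻¹ = g * (h * a * h⁻¹ * a⁻¹) * g⁻¹ * (g * a * g⁻¹ * a⁻¹) := by group
      _ = _ := by rw [← mem_centralizer_iff.1 hg _ m2, mul_inv_cancel_right]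
  exact Prod.ext (key _) (key _)

theorem mu_of_mem_centralizer {c : P} (hc : c ∈ centralizer (A : Set P)) : mu A hAc ι hsurj c = 0 := by
  refine Prod.ext ?_ ?_ <;>
  · show co A hAc ι _ = 0
    rw [← mem_centralizer_iff.1 hc _ (root_mem A hAc ι hsurj _), mul_inv_cancel_right, mul_inv_cancel, co_one]

include hA4 in
theorem mem_centralizer_of_mu {g : P} (hg : g ∈ centralizer (sqW A hAc : Set P))
    (h : mu A hAc ι hsurj g = 0) : g ∈ centralizer (A : Set P) := by
  refine mem_centralizer_iff.2 fun a ha => ?_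
  have h1 := app_mu A hAc hA4 ι hsurj hg ha
  rw [h, app_zero] at h1
  have h2 := co_eq_zero A hAc ι (comm_mem A hAc hA4 hg ha) h1.symm
  rw [mul_inv_eq_one, mul_inv_eq_iff_eq_mul] at h2
  exact h2.symm

include hA4 in
theorem mu_inv {g : P} (hg : g ∈ centralizer (sqW A hAc : Set P)) :
    mu A hAc ι hsurj g⁻¹ = mu A hAc ι hsurj g := by
  have h := mu_mul A hAc hA4 ι hsurj (inv_mem hg) hg
  rw [inv_mul_cancel, mu_of_mem_centralizer A hAc ι hsurj (one_mem _)] at h
  rw [eq_neg_of_add_eq_zero_left h.symm, neg_eq4]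

theorem app_sig [(sqW A hAc).Normal] (h : P) {w : P} (hw : w ∈ sqW A hAc) :
    app (sig A hAc ι hsurj h) (co A hAc ι w) = co A hAc ι (h * w * h⁻¹) := by
  have hn : (sqW A hAc).Normal := inferInstance
  obtain ⟨a, b, hab⟩ : ∃ a b : P, True ∧ True := ⟨1, 1, trivial, trivial⟩
  have hroot : ∀ v, root A hAc ι hsurj v ^ 2 ∈ sqW A hAc := fun v => by
    rw [root, (hsurj _ (exists_co A hAc ι v).choose_spec.1).choose_spec.2]
    exact (exists_co A hAc ι v).choose_spec.1
  have e : ∀ v, co A hAc ι w = v → w = (ι.symm (Multiplicative.ofAdd v) : P) := by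
    intro v hv
    refine co_inj A hAc ι hw (ι.symm _).2 (hv.trans ?_)
    rw [co, dif_pos (ι.symm _).2]; simp
  rcases k4_cases (co A hAc ι w) with h1 | h1 | h1 | h1
  · rw [co_eq_zero A hAc ι hw h1, mul_one, mul_inv_cancel, co_one]
    simp [app]
  · rw [co_inj A hAc ι hw (hroot _) (h1.trans (co_root A hAc ι hsurj _).symm), co_root]
    simp [app, sig]
  · rw [co_inj A hAc ι hw (hroot _) (h1.trans (co_root A hAc ι hsurj _).symm), co_root]
    simp [app, sig]
  · have h2 : co A hAc ι (root A hAc ι hsurj (1, 0) ^ 2 * root A hAc ι hsurj (0, 1) ^ 2) = (1, 0) + (0, 1) := by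
      rw [co_mul A hAc ι (hroot _) (hroot _), co_root, co_root]
    rw [co_inj A hAc ι hw (mul_mem (hroot _) (hroot _)) (h1.trans h2.symm), h2, ← conj_mul,
      co_mul A hAc ι (hn.conj_mem _ (hroot _) h) (hn.conj_mem _ (hroot _) h)]
    simp [app, sig, Prod.ext_iff]

include hA4 in
theorem mu_conj [(sqW A hAc).Normal] {g : P} (hg : g ∈ centralizer (sqW A hAc : Set P)) (h : P) (v : K4) :
    app (mu A hAc ι hsurj (h * g * h⁻¹)) (app (sig A hAc ι hsurj h) v)
      = app (sig A hAc ι hsurj h) (app (mu A hAc ι hsurj g) v) := by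
  haveI := centralizer_normal (sqW A hAc)
  obtain ⟨w, hw, rfl⟩ := exists_co A hAc ι v
  obtain ⟨a, ha, rfl⟩ := hsurj w hw
  rw [app_sig A hAc ι hsurj h hw, app_mu A hAc hA4 ι hsurj hg ha,
    app_sig A hAc ι hsurj h (comm_mem A hAc hA4 hg ha), ← conj_pow,
    app_mu A hAc hA4 ι hsurj ((centralizer_normal (sqW A hAc)).conj_mem g hg h) (hAn.conj_mem a ha h)]
  congr 1
  group

theorem sig_bij [(sqW A hAc).Normal] (h : P) : ∀ v, app (sig A hAc ι hsurj h) v = 0 → v = 0 := by
  intro v hv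
  obtain ⟨w, hw, rfl⟩ := exists_co A hAc ι v
  rw [app_sig A hAc ι hsurj h hw] at hv
  have h1 := co_eq_zero A hAc ι ((inferInstance : (sqW A hAc).Normal).conj_mem w hw h) hv
  rw [conj_eq_one_iff] at h1
  rw [h1, co_one]

theorem sig_mul [(sqW A hAc).Normal] (h k : P) (v : K4) :
    app (sig A hAc ι hsurj (h * k)) v = app (sig A hAc ι hsurj h) (app (sig A hAc ι hsurj k) v) := by
  obtain ⟨w, hw, rfl⟩ := exists_co A hAc ι v
  rw [app_sig A hAc ι hsurj _ hw, app_sig A hAc ι hsurj _ hw,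
    app_sig A hAc ι hsurj _ ((inferInstance : (sqW A hAc).Normal).conj_mem w hw k)]
  congr 1
  group

theorem mem_G0_of_sig [(sqW A hAc).Normal] (h : P) (hh : ∀ v, app (sig A hAc ι hsurj h) v = v) :
    h ∈ centralizer (sqW A hAc : Set P) := by
  refine mem_centralizer_iff.2 fun w hw => ?_
  have h1 := hh (co A hAc ι w)
  rw [app_sig A hAc ι hsurj h hw] at h1
  have h2 := co_inj A hAc ι ((inferInstance : (sqW A hAc).Normal).conj_mem w hw h) hw h1
  rw [mul_inv_eq_iff_eq_mul] at h2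
  exact h2.symm

theorem sig_of_mem [(sqW A hAc).Normal] {h : P} (hh : h ∈ centralizer (sqW A hAc : Set P)) (v : K4) :
    app (sig A hAc ι hsurj h) v = v := by
  obtain ⟨w, hw, rfl⟩ := exists_co A hAc ι v
  rw [app_sig A hAc ι hsurj h hw, ← mem_centralizer_iff.1 hh w hw, mul_inv_cancel_right]

include hP in
theorem sig_invol [(sqW A hAc).Normal] (h : P) (v : K4) :
    app (sig A hAc ι hsurj h) (app (sig A hAc ι hsurj h) v) = v := by
  rcases invo_or_cube _ (sig_bij A hAc ι hsurj h) with h2 | h3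
  · exact h2 v
  · have h3' : h ^ 3 ∈ centralizer (sqW A hAc : Set P) := by
      refine mem_G0_of_sig A hAc ι hsurj _ fun v => ?_
      rw [show h ^ 3 = h * (h * h) by rw [pow_succ', pow_two], sig_mul, sig_mul]
      exact h3 v
    obtain ⟨k, hk⟩ := hP h
    have hco : Nat.Coprime (2 ^ k) 3 := Nat.Coprime.pow_left _ (by norm_num)
    have hmem : h ∈ centralizer (sqW A hAc : Set P) := by
      have hb := Nat.gcd_eq_gcd_ab (2 ^ k) 3
      rw [hco] at hb
      rw [← zpow_one h, show ((1 : ℤ)) = ((1 : ℕ) : ℤ) from rfl, hb, zpow_add, zpow_mul, zpow_mul,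
        zpow_natCast, zpow_natCast, hk, one_zpow, one_mul]
      exact zpow_mem h3' _
    rw [sig_of_mem A hAc ι hsurj hmem, sig_of_mem A hAc ι hsurj hmem]

theorem invo_sig [(sqW A hAc).Normal] (hP : IsPGroup 2 P) {h : P}
    (hh : h ∉ centralizer (sqW A hAc : Set P)) : Invo (sig A hAc ι hsurj h) :=
  ⟨fun e => hh (mem_G0_of_sig A hAc ι hsurj h (fun v => by rw [e, app_one4])),
    sig_invol A hAc hP ι hsurj h⟩

include hP in
theorem sig_eq [(sqW A hAc).Normal] {h k : P} (hh : h ∉ centralizer (sqW A hAc : Set P))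
    (hk : k ∉ centralizer (sqW A hAc : Set P)) : sig A hAc ι hsurj h = sig A hAc ι hsurj k := by
  refine two_invo _ _ (invo_sig A hAc ι hsurj hP hh) (invo_sig A hAc ι hsurj hP hk) fun v => ?_
  have := sig_invol A hAc hP ι hsurj (h * k) v
  rwa [sig_mul, sig_mul] at this

include hA4 homega in
/-- a good element inverts only elements of `sqW` -/
theorem inverted {g : P} (hg : g ∈ centralizer (sqW A hAc : Set P)) (hgood : Good (mu A hAc ι hsurj g))
    (hP : IsPGroup 2 P) {u : P} (hu : u ∈ centralizer (A : Set P)) (hinv : g * u * g⁻¹ = u⁻¹) :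
    u ∈ sqW A hAc := by
  have key : ∀ v : P, v ∈ centralizer (A : Set P) → v ^ 4 = 1 → g * v * g⁻¹ = v⁻¹ → v ^ 2 = 1 := by
    intro v hv h4 hi
    have hvA : v ∈ A := homega v hv h4
    have h := app_mu A hAc hA4 ι hsurj hg hvA
    have e : g * v * g⁻¹ * v⁻¹ = v ^ 2 := by
      rw [hi, pow_two]
      calc v⁻¹ * v⁻¹ = (v * v)⁻¹ := (mul_inv_rev v v).symm
        _ = v * v := inv_eq_of_mul_eq_one_right (by rw [← h4]; simp [pow_succ, mul_assoc])
    rw [e] at h
    exact co_eq_zero A hAc ι ⟨pow_mem hvA 2, by rw [← pow_mul]; exact h4⟩ (hgood.2 _ h)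
  by_cases h4 : u ^ 4 = 1
  · exact ⟨homega u hu h4, key u hu h4 hinv⟩
  · exfalso
    obtain ⟨k, hk⟩ := hP u
    obtain ⟨j, hj1, hj2⟩ := pow_two_pow_ne hk h4
    exact hj2 (key _ (pow_mem hu _) hj1 (by rw [← conj_pow, hinv, inv_pow]))

include hA4 homega in
/-- squares of the elements of a coset -/
theorem fibre (hP : IsPGroup 2 P) {g : P} (hg : g ∈ centralizer (sqW A hAc : Set P))
    (hgood : Good (mu A hAc ι hsurj g)) {c c' : P} (hc : c ∈ centralizer (A : Set P))
    (hc' : c' ∈ centralizer (A : Set P)) (h : (g * c) ^ 2 = (g * c') ^ 2) : c⁻¹ * c' ∈ sqW A hAc := by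
  set u := c⁻¹ * c' with hu
  have hgc : g * c ∈ centralizer (sqW A hAc : Set P) :=
    mul_mem hg (centralizer_anti_mem (fun w (hw : w ∈ sqW A hAc) => hw.1) hc)
  refine inverted A hAc homega hA4 ι hsurj hgc ?_ hP (mul_mem (inv_mem hc) hc') ?_
  · rwa [mu_mul A hAc hA4 ι hsurj hg (centralizer_anti_mem (fun w (hw : w ∈ sqW A hAc) => hw.1) hc),
      mu_of_mem_centralizer A hAc ι hsurj hc, add_zero]
  · have e : g * c' = g * c * u := by rw [hu]; group
    rw [e, pow_two, pow_two] at h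
    have h' : u * (g * c * u) = g * c := by
      have := h.symm
      rw [mul_assoc (g * c) u] at this
      exact mul_left_cancel this
    calc g * c * u * (g * c)⁻¹ = u⁻¹ * (u * (g * c * u)) * (g * c)⁻¹ := by group
      _ = u⁻¹ := by rw [h']; group

include hA4 homega in
/-- an involution exists in a coset of `D` when the squares fall in a subgroup of index at most four -/
theorem exists_invol (hP : IsPGroup 2 P) {g : P} (hg : g ∈ centralizer (sqW A hAc : Set P))
    (hgood : Good (mu A hAc ι hsurj g)) (D Y : Finset P) (hD : ∀ c ∈ D, c ∈ centralizer (A : Set P))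
    (hY : ∀ c ∈ D, (g * c) ^ 2 ∈ Y) (h1 : (1 : P) ∈ Y) (hcard : 4 * Y.card ≤ D.card) :
    ∃ c ∈ D, (g * c) ^ 2 = 1 := by
  classical
  by_contra hno
  push Not at hno
  have hW4 : Nat.card (sqW A hAc) = 4 := by
    rw [Nat.card_congr ι.toEquiv, Nat.card_eq_fintype_card]; rfl
  haveI : Fintype P := Fintype.ofFinite P
  set Wf : Finset P := Finset.univ.filter (fun x => x ∈ sqW A hAc) with hWf
  have hWfc : Wf.card = 4 := by
    rw [← hW4, Nat.card_eq_fintype_card, Fintype.card_subtype]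
  have h := Finset.card_le_mul_card_image_of_maps_to (f := fun c => (g * c) ^ 2) (s := D) (t := Y.erase 1)
    (fun c hc => Finset.mem_erase.2 ⟨hno c hc, hY c hc⟩) 4 (fun y _ => by
      rcases (D.filter fun c => (g * c) ^ 2 = y).eq_empty_or_nonempty with he | ⟨c0, hc0⟩
      · simp [he]
      · rw [Finset.mem_filter] at hc0
        refine le_trans (Finset.card_le_card (t := Wf.image (fun w => c0 * w)) ?_)
          (Finset.card_image_le.trans hWfc.le)
        intro c hc
        rw [Finset.mem_filter] at hc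
        refine Finset.mem_image.2 ⟨c0⁻¹ * c, ?_, mul_inv_cancel_left c0 c⟩
        rw [hWf, Finset.mem_filter]
        exact ⟨Finset.mem_univ _, fibre A hAc homega hA4 ι hsurj hP hg hgood (hD c0 hc0.1) (hD c hc.1)
          (hc0.2.trans hc.2.symm)⟩)
  rw [Finset.card_erase_of_mem h1] at h
  have := Finset.card_pos.2 ⟨1, h1⟩
  omega

include hA4 homega in
/-- a fixed good involution gives a normal elementary abelian subgroup of order eight -/
theorem no_invol (hP : IsPGroup 2 P)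
    (hno : ∀ B : Subgroup P, B.Normal → IsMulCommutative B → (∀ a ∈ B, a ^ 2 = 1) → Nat.card B ≤ 4)
    {x : P} (hx : x ∈ centralizer (sqW A hAc : Set P)) (hx2 : x ^ 2 = 1)
    (hgood : Good (mu A hAc ι hsurj x))
    (hfix : ∀ h v, app (sig A hAc ι hsurj h) (app (mu A hAc ι hsurj x) v)
      = app (mu A hAc ι hsurj x) (app (sig A hAc ι hsurj h) v)) : False := by
  haveI := sqW_normal A hAc
  haveI := centralizer_normal (sqW A hAc)
  have hxW : x ∉ (sqW A hAc) := by
    intro h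
    refine hgood.1 (mu_of_mem_centralizer A hAc ι hsurj ?_)
    exact mem_centralizer_iff.2 fun a ha => hAc a ha x h.1
  set B := (sqW A hAc) ⊔ zpowers x with hB
  have hconj : ∀ h : P, h * x * h⁻¹ ∈ B := by
    intro h
    set y := h * x * h⁻¹ with hy
    have hyG : y ∈ centralizer ((sqW A hAc) : Set P) := (centralizer_normal (sqW A hAc)).conj_mem x hx h
    have hmu : mu A hAc ι hsurj y = mu A hAc ι hsurj x := by
      refine app_ext _ _ fun v => ?_
      have e1 := mu_conj A hAc hA4 ι hsurj hx h (app (sig A hAc ι hsurj h) v)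
      rw [sig_invol A hAc hP ι hsurj] at e1
      rw [e1, hfix h, sig_invol A hAc hP ι hsurj]
    have hc : x⁻¹ * y ∈ centralizer (A : Set P) := by
      refine mem_centralizer_of_mu A hAc hA4 ι hsurj (mul_mem (inv_mem hx) hyG) ?_
      rw [mu_mul A hAc hA4 ι hsurj (inv_mem hx) hyG, mu_inv A hAc hA4 ι hsurj hx, hmu]
      exact eq_neg_iff_add_eq_zero.1 (neg_eq4 _).symm
    have hW' := fibre A hAc homega hA4 ι hsurj hP hx hgood (one_mem _) hc
      (by rw [mul_one, hx2, mul_inv_cancel_left, hy, conj_pow, hx2, mul_one, mul_inv_cancel])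
    rw [inv_one, one_mul] at hW'
    rw [show y = x * (x⁻¹ * y) by group]
    exact mul_mem (mem_sup_right (mem_zpowers x)) (mem_sup_left hW')
  have hBn : B.Normal := by
    refine ⟨fun b hb h => ?_⟩
    have : B ≤ B.comap (MulAut.conj h).toMonoidHom := by
      refine sup_le (fun w hw => ?_) (zpowers_le.2 (hconj h))
      exact mem_sup_left ((sqW_normal A hAc).conj_mem w hw h)
    exact this hb
  have hset : (B : Set P) = ((sqW A hAc) : Set P) * (zpowers x : Set P) := Subgroup.normal_mul (sqW A hAc) (zpowers x)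
  have hcm : ∀ w ∈ (sqW A hAc), ∀ i : ℤ, Commute w (x ^ i) := fun w hw i =>
    Commute.zpow_right (mem_centralizer_iff.1 hx w hw) i
  have hBc : IsMulCommutative B := by
    refine ⟨⟨fun b c => Subtype.ext ?_⟩⟩
    obtain ⟨y, hy⟩ := b
    obtain ⟨z, hz⟩ := c
    rw [← SetLike.mem_coe, hset] at hy hz
    obtain ⟨w, hw, u, hu, rfl⟩ := hy
    obtain ⟨w', hw', v, hv, rfl⟩ := hz
    obtain ⟨i, rfl⟩ := mem_zpowers_iff.1 hu
    obtain ⟨l, rfl⟩ := mem_zpowers_iff.1 hv
    exact ((Commute.mul_right (hAc w hw.1 w' hw'.1) (hcm w hw l)).mul_left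
      (Commute.mul_right (hcm w' hw' i).symm (Commute.zpow_zpow_self x i l))).eq
  have hB2 : ∀ b ∈ B, b ^ 2 = 1 := by
    intro y hy
    rw [← SetLike.mem_coe, hset] at hy
    obtain ⟨w, hw, u, hu, rfl⟩ := hy
    obtain ⟨i, rfl⟩ := mem_zpowers_iff.1 hu
    rw [(hcm w hw i).mul_pow, hw.2, one_mul, ← zpow_natCast, ← zpow_mul, mul_comm, zpow_mul, zpow_natCast,
      hx2, one_zpow]
  have hle := hno B hBn hBc hB2
  have hlt : (sqW A hAc) < B := left_lt_sup.2 (fun h => hxW (h (mem_zpowers x)))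
  have h4 : Nat.card (sqW A hAc) = 4 := by
    rw [Nat.card_congr ι.toEquiv, Nat.card_eq_fintype_card]; rfl
  have hlt' : Nat.card (sqW A hAc) < Nat.card B :=
    lt_of_le_of_ne (Nat.le_of_dvd Nat.card_pos (card_dvd_of_le hlt.le))
      (fun e => hlt.ne (eq_of_le_of_card_ge hlt.le e.ge))
  omega

include hA4 in
/-- the image of `mu` on a subgroup -/
noncomputable def img (K : Subgroup P) (hK : K ≤ centralizer (sqW A hAc : Set P)) : AddSubgroup M4 where
  carrier := {X | ∃ g ∈ K, mu A hAc ι hsurj g = X}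
  zero_mem' := ⟨1, one_mem K, mu_of_mem_centralizer A hAc ι hsurj (one_mem _)⟩
  add_mem' := by
    rintro X Y ⟨g, hg, rfl⟩ ⟨h, hh, rfl⟩
    exact ⟨g * h, mul_mem hg hh, mu_mul A hAc hA4 ι hsurj (hK hg) (hK hh)⟩
  neg_mem' := fun {X} h => (neg_eq4 X).symm ▸ h

include hA4 in
theorem card_img (K : Subgroup P) (hK : K ≤ centralizer (sqW A hAc : Set P)) :
    (centralizer (A : Set P)).relIndex K = Nat.card (img A hAc hA4 ι hsurj K hK) := by
  let f : K →* Multiplicative M4 :=
    { toFun := fun g => Multiplicative.ofAdd (mu A hAc ι hsurj g)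
      map_one' := congrArg Multiplicative.ofAdd (mu_of_mem_centralizer A hAc ι hsurj (one_mem _))
      map_mul' := fun g h => congrArg Multiplicative.ofAdd (mu_mul A hAc hA4 ι hsurj (hK g.2) (hK h.2)) }
  have hker : f.ker = (centralizer (A : Set P)).subgroupOf K := by
    ext g
    rw [MonoidHom.mem_ker, mem_subgroupOf]
    exact ⟨fun h => mem_centralizer_of_mu A hAc hA4 ι hsurj (hK g.2) (Multiplicative.ofAdd.injective h),
      fun h => congrArg Multiplicative.ofAdd (mu_of_mem_centralizer A hAc ι hsurj h)⟩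
  show ((centralizer (A : Set P)).subgroupOf K).index = _
  rw [← hker, index_ker]
  refine Nat.card_congr
    { toFun := fun X => ⟨Multiplicative.toAdd X.1, by
        obtain ⟨g, hg⟩ := X.2; exact ⟨g, g.2, congrArg Multiplicative.toAdd hg⟩⟩
      invFun := fun X => ⟨Multiplicative.ofAdd X.1, by
        obtain ⟨g, hg, he⟩ := X.2; exact ⟨⟨g, hg⟩, congrArg Multiplicative.ofAdd he⟩⟩
      left_inv := fun X => rfl
      right_inv := fun X => rfl }

include hA4 homega ι hsurj in
theorem not_full (hP : IsPGroup 2 P)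
    (hno : ∀ B : Subgroup P, B.Normal → IsMulCommutative B → (∀ a ∈ B, a ^ 2 = 1) → Nat.card B ≤ 4)
    (hfull : ∀ X, ∃ g ∈ centralizer (sqW A hAc : Set P), mu A hAc ι hsurj g = X) : False := by
  classical
  haveI : Fintype P := Fintype.ofFinite P
  haveI := sqW_normal A hAc
  haveI hG0n := centralizer_normal (sqW A hAc)
  set C := centralizer (A : Set P) with hC
  set G0 := centralizer ((sqW A hAc) : Set P) with hG0
  have hW4 : Nat.card (sqW A hAc) = 4 := by
    rw [Nat.card_congr ι.toEquiv, Nat.card_eq_fintype_card]; rfl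
  have hAC : A ≤ C := fun a ha => mem_centralizer_iff.2 fun b hb => hAc b hb a ha
  have hCG : C ≤ G0 := fun c hc => centralizer_anti_mem (fun w (hw : w ∈ sqW A hAc) => hw.1) hc
  have hsqm : ∀ x ∈ A, x ^ 2 ∈ (sqW A hAc) := fun x hx => ⟨pow_mem hx 2, by rw [← pow_mul]; exact hA4 _ hx⟩
  -- elements of `C` fixed by an element acting invertibly
  have hfixed : ∀ z ∈ G0, (∀ v, app (mu A hAc ι hsurj z) v = 0 → v = 0) → ∀ c ∈ C,
      z * c * z⁻¹ = c → c ∈ (sqW A hAc) := by
    intro z hz hinj c hc hzc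
    have key : ∀ v ∈ C, v ^ 4 = 1 → z * v * z⁻¹ = v → v ^ 2 = 1 := by
      intro v hv h4 hzv
      have hvA : v ∈ A := homega v hv h4
      have h := app_mu A hAc hA4 ι hsurj hz hvA
      rw [hzv, mul_inv_cancel, co_one] at h
      exact co_eq_zero A hAc ι (hsqm v hvA) (hinj _ h)
    by_cases h4 : c ^ 4 = 1
    · exact ⟨homega c hc h4, key c hc h4 hzc⟩
    · exfalso
      obtain ⟨k, hk⟩ := hP c
      obtain ⟨j, hj1, hj2⟩ := pow_two_pow_ne hk h4
      exact hj2 (key _ (pow_mem hc _) hj1 (by rw [← conj_pow, hzc]))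
  have hsqC : ∀ x ∈ G0, x ^ 2 ∈ C := fun x hx => by
    refine mem_centralizer_of_mu A hAc hA4 ι hsurj (pow_mem hx 2) ?_
    rw [pow_two, mu_mul A hAc hA4 ι hsurj hx hx]
    exact eq_neg_iff_add_eq_zero.1 (neg_eq4 _).symm
  have hsqW : ∀ z ∈ G0, (∀ v, app (mu A hAc ι hsurj z) v = 0 → v = 0) → z ^ 2 ∈ (sqW A hAc) := fun z hz hinj =>
    hfixed z hz hinj _ (hsqC z hz) (by group)
  obtain ⟨gz, gz2, hsum, iz, iz2⟩ := zee_facts
  obtain ⟨z, hz, hmz⟩ := hfull zee
  obtain ⟨z', hz', hmz'⟩ := hfull zee2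
  -- `C = A`
  have hCA : C ≤ A := by
    have hAfin : Nat.card A = 16 := by
      let f : A → (sqW A hAc) := fun a => ⟨(a : P) ^ 2, hsqm a a.2⟩
      have hfib : ∀ w : (sqW A hAc), Nat.card {a : A // f a = w} = 4 := by
        intro w
        obtain ⟨a0, ha0, ha0w⟩ := hsurj w w.2
        rw [← hW4]
        refine Nat.card_congr
          { toFun := fun a => ⟨a0⁻¹ * (a.1 : P), mul_mem (inv_mem ha0) a.1.2, by
              rw [Commute.mul_pow (hAc _ (inv_mem ha0) _ a.1.2), inv_pow, ha0w,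
                show ((a.1 : P)) ^ 2 = (w : P) from congrArg Subtype.val a.2, inv_mul_cancel]⟩
            invFun := fun u => ⟨⟨a0 * u, mul_mem ha0 u.2.1⟩, Subtype.ext (by
              show (a0 * (u : P)) ^ 2 = (w : P)
              rw [Commute.mul_pow (hAc _ ha0 _ u.2.1), u.2.2, mul_one, ha0w])⟩
            left_inv := fun a => Subtype.ext (Subtype.ext (mul_inv_cancel_left _ _))
            right_inv := fun u => Subtype.ext (inv_mul_cancel_left _ _) }
      haveI : Fintype (sqW A hAc) := Fintype.ofFinite (sqW A hAc)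
      rw [Nat.card_congr (Equiv.sigmaFiberEquiv f).symm, Nat.card_sigma, Finset.sum_congr rfl (fun w _ => hfib w),
        Finset.sum_const, Finset.card_univ, ← Nat.card_eq_fintype_card, hW4]
      rfl
    have hCle : Nat.card C ≤ 16 := by
      have h := Finset.card_le_mul_card_image_of_maps_to (f := fun c => (z * c) ^ 2)
        (s := Finset.univ.filter (fun c => c ∈ C)) (t := Finset.univ.filter (fun c => c ∈ (sqW A hAc)))
        (fun c hc => by
          rw [Finset.mem_filter] at hc ⊢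
          refine ⟨Finset.mem_univ _, hsqW _ (mul_mem hz (hCG hc.2)) ?_⟩
          rw [mu_mul A hAc hA4 ι hsurj hz (hCG hc.2), mu_of_mem_centralizer A hAc ι hsurj hc.2, add_zero,
            hmz]
          exact iz) 4 (fun y _ => by
          rcases ((Finset.univ.filter (fun c => c ∈ C)).filter fun c => (z * c) ^ 2 = y).eq_empty_or_nonempty
            with he | ⟨c0, hc0⟩
          · simp [he]
          · rw [Finset.mem_filter, Finset.mem_filter] at hc0
            refine le_trans (Finset.card_le_card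
              (t := (Finset.univ.filter (fun c => c ∈ (sqW A hAc))).image (fun w => c0 * w)) ?_) (Finset.card_image_le.trans ?_)
            · intro c hc
              rw [Finset.mem_filter, Finset.mem_filter] at hc
              refine Finset.mem_image.2 ⟨c0⁻¹ * c, ?_, mul_inv_cancel_left c0 c⟩
              rw [Finset.mem_filter]
              exact ⟨Finset.mem_univ _, fibre A hAc homega hA4 ι hsurj hP hz (hmz ▸ gz) hc0.1.2 hc.1.2
                (hc0.2.trans hc.2.symm)⟩
            · rw [← hW4, Nat.card_eq_fintype_card, Fintype.card_subtype])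
      rw [← Fintype.card_subtype, ← Fintype.card_subtype, ← Nat.card_eq_fintype_card,
        ← Nat.card_eq_fintype_card] at h
      change Nat.card C ≤ 4 * Nat.card (sqW A hAc) at h
      omega
    exact (eq_of_le_of_card_ge hAC (by omega)).ge
  -- lifts of `zee`, `zee2` are central modulo `(sqW A hAc)`
  have hcentral : ∀ y ∈ G0, ∀ t ∈ G0, Good (mu A hAc ι hsurj t) →
      (∀ v, app (mu A hAc ι hsurj t) v = 0 → v = 0) → t⁻¹ * (y * t * y⁻¹) ∈ (sqW A hAc) := by
    intro y hy t ht hgood hinj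
    have hc : t⁻¹ * (y * t * y⁻¹) ∈ C := by
      refine mem_centralizer_of_mu A hAc hA4 ι hsurj (mul_mem (inv_mem ht) (hG0n.conj_mem t ht y)) ?_
      rw [mu_mul A hAc hA4 ι hsurj (inv_mem ht) (hG0n.conj_mem t ht y), mu_inv A hAc hA4 ι hsurj ht,
        mu_mul A hAc hA4 ι hsurj (mul_mem hy ht) (inv_mem hy), mu_mul A hAc hA4 ι hsurj hy ht,
        mu_inv A hAc hA4 ι hsurj hy]
      have : ∀ a b : M4, a + (b + a + b) = 0 := by decide +kernel
      exact this _ _
    have h := fibre A hAc homega hA4 ι hsurj hP ht hgood (one_mem _) hc (by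
      rw [mul_one, mul_inv_cancel_left, conj_pow, ← mem_centralizer_iff.1 hy _ (hsqW t ht hinj),
        mul_inv_cancel_right])
    rwa [inv_one, one_mul] at h
  have hW_central : ∀ w ∈ (sqW A hAc), ∀ y ∈ G0, w * y = y * w := fun w hw y hy => mem_centralizer_iff.1 hy w hw
  set i := z * z' with hi
  have hiG : i ∈ G0 := mul_mem hz hz'
  have hmi : mu A hAc ι hsurj i = one4 := by rw [hi, mu_mul A hAc hA4 ι hsurj hz hz', hmz, hmz', hsum]
  have hn2 : ∀ n ∈ G0, n ^ 2 ∈ (sqW A hAc) := by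
    intro n hn
    have hu := hcentral n hn z hz (hmz ▸ gz) (hmz ▸ iz)
    have hu' := hcentral n hn z' hz' (hmz' ▸ gz2) (hmz' ▸ iz2)
    set u := z⁻¹ * (n * z * n⁻¹) with hudef
    set u' := z'⁻¹ * (n * z' * n⁻¹) with hudef'
    set w := u * u' with hwdef
    have e1 : n * i * n⁻¹ = i * w := by
      calc n * i * n⁻¹ = (z * u) * (z' * u') := by rw [hudef, hudef', hi]; group
        _ = i * w := by
          rw [hwdef, hi, mul_assoc, ← mul_assoc u, hW_central u hu z' hz']; group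
    have e2 : n ^ 2 * i * (n ^ 2)⁻¹ = i := by
      have hwW : w ∈ (sqW A hAc) := mul_mem hu hu'
      have hnw : n * w * n⁻¹ = w := by rw [← hW_central w hwW n hn, mul_inv_cancel_right]
      calc n ^ 2 * i * (n ^ 2)⁻¹ = n * (i * w) * n⁻¹ := by rw [← e1, pow_two]; group
        _ = (n * i * n⁻¹) * (n * w * n⁻¹) := by group
        _ = i * w * w := by rw [e1, hnw]
        _ = i := by rw [mul_assoc, ← pow_two, hwW.2, mul_one]
    have hA2 : n ^ 2 ∈ A := hCA (hsqC n hn)
    have h := app_mu A hAc hA4 ι hsurj hiG hA2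
    have e3 : i * n ^ 2 * i⁻¹ * (n ^ 2)⁻¹ = 1 := by
      rw [mul_inv_eq_one, mul_inv_eq_iff_eq_mul]
      exact (mul_inv_eq_iff_eq_mul.1 e2).symm
    rw [e3, hmi, app_one4, co_one] at h
    exact ⟨hA2, co_eq_zero A hAc ι (hsqm _ hA2) h⟩
  -- choose a fixed good element
  have hX : ∃ X, Good X ∧ ∀ h v, app (sig A hAc ι hsurj h) (app X v) = app X (app (sig A hAc ι hsurj h) v) := by
    by_cases hs : ∃ s, s ∉ G0
    · obtain ⟨s, hs⟩ := hs
      have hsh := invo_shift _ (invo_sig A hAc ι hsurj hP hs)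
      refine ⟨_, hsh.1, fun h v => ?_⟩
      by_cases hh : h ∈ G0
      · rw [sig_of_mem A hAc ι hsurj hh, sig_of_mem A hAc ι hsurj hh]
      · rw [sig_eq A hAc hP ι hsurj hh hs]; exact hsh.2 v
    · push Not at hs
      exact ⟨zee, gz, fun h v => by rw [sig_of_mem A hAc ι hsurj (hs h), sig_of_mem A hAc ι hsurj (hs h)]⟩
  obtain ⟨X, hgood, hfix⟩ := hX
  obtain ⟨n, hn, hmn⟩ := hfull X
  obtain ⟨c, hc, hc2⟩ := exists_invol A hAc homega hA4 ι hsurj hP hn (hmn ▸ hgood)
    (Finset.univ.filter (fun c => c ∈ C)) (Finset.univ.filter (fun c => c ∈ (sqW A hAc)))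
    (fun c hc => (Finset.mem_filter.1 hc).2)
    (fun c hc => Finset.mem_filter.2 ⟨Finset.mem_univ _, hn2 _ (mul_mem hn (hCG (Finset.mem_filter.1 hc).2))⟩)
    (Finset.mem_filter.2 ⟨Finset.mem_univ _, one_mem _⟩) (by
      rw [← Fintype.card_subtype, ← Fintype.card_subtype, ← Nat.card_eq_fintype_card, ← Nat.card_eq_fintype_card]
      change 4 * Nat.card (sqW A hAc) ≤ Nat.card C
      have h16 : 4 * Nat.card (sqW A hAc) ≤ Nat.card A := by
        let f : (sqW A hAc) × (sqW A hAc) → A := fun p => ⟨(hsurj p.1 p.1.2).choose * p.2,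
          mul_mem (hsurj p.1 p.1.2).choose_spec.1 p.2.2.1⟩
        have hf : Function.Injective f := by
          rintro ⟨p1, p2⟩ ⟨q1, q2⟩ h
          have h' : (hsurj p1 p1.2).choose * (p2 : P) = (hsurj q1 q1.2).choose * (q2 : P) :=
            congrArg Subtype.val h
          have hsq := congrArg (· ^ 2) h'
          simp only [Commute.mul_pow (hAc _ (hsurj p1 p1.2).choose_spec.1 _ p2.2.1),
            Commute.mul_pow (hAc _ (hsurj q1 q1.2).choose_spec.1 _ q2.2.1), p2.2.2, q2.2.2, mul_one,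
            (hsurj p1 p1.2).choose_spec.2, (hsurj q1 q1.2).choose_spec.2] at hsq
          obtain rfl : p1 = q1 := Subtype.ext hsq
          exact Prod.ext rfl (Subtype.ext (mul_left_cancel h'))
        have := Nat.card_le_card_of_injective f hf
        rw [Nat.card_prod, hW4] at this
        rw [hW4]; exact this
      exact h16.trans (Nat.le_of_dvd Nat.card_pos (card_dvd_of_le hAC)))
  refine no_invol A hAc homega hA4 ι hsurj hP hno (mul_mem hn (hCG (Finset.mem_filter.1 hc).2)) hc2 ?_ ?_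
  · rwa [mu_mul A hAc hA4 ι hsurj hn (hCG (Finset.mem_filter.1 hc).2),
      mu_of_mem_centralizer A hAc ι hsurj (Finset.mem_filter.1 hc).2, add_zero, hmn]
  · rw [mu_mul A hAc hA4 ι hsurj hn (hCG (Finset.mem_filter.1 hc).2),
      mu_of_mem_centralizer A hAc ι hsurj (Finset.mem_filter.1 hc).2, add_zero, hmn]
    exact hfix

include hA4 homega ι hsurj in
theorem big_case (hP : IsPGroup 2 P)
    (hno : ∀ B : Subgroup P, B.Normal → IsMulCommutative B → (∀ a ∈ B, a ^ 2 = 1) → Nat.card B ≤ 4)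
    (hW : Nat.card (sqW A hAc) ≤ 4) (L : Subgroup P) (N : Subgroup L) [N.Normal]
    (hsq : ∀ x : L, x ^ 2 ∈ N) : N.index ≤ 16 := by
  classical
  haveI : Fintype P := Fintype.ofFinite P
  haveI : Fact (Nat.Prime 2) := ⟨Nat.prime_two⟩
  haveI := sqW_normal A hAc
  haveI hCn := centralizer_normal A
  haveI hG0n := centralizer_normal (sqW A hAc)
  set C := centralizer (A : Set P) with hC
  set G0 := centralizer (sqW A hAc : Set P) with hG0
  have hCG : C ≤ G0 := fun c hc => centralizer_anti_mem (fun w (hw : w ∈ sqW A hAc) => hw.1) hc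
  have hgi : G0.index ≤ 2 := by
    by_cases hs : ∃ s, s ∉ G0
    · obtain ⟨s, hs⟩ := hs
      refine le_of_eq (index_eq_two_iff.2 ⟨s, fun b => ?_⟩)
      by_cases hb : b ∈ G0
      · exact Or.inr ⟨hb, fun h => hs (by simpa using mul_mem (inv_mem hb) h)⟩
      · refine Or.inl ⟨mem_G0_of_sig A hAc ι hsurj _ fun v => ?_, hb⟩
        rw [sig_mul, sig_eq A hAc hP ι hsurj hb hs, sig_invol A hAc hP ι hsurj]
    · push Not at hs
      rw [(eq_top_iff' _).2 hs, index_top]; omega
  set K0 := G0 ⊓ L with hK0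
  set M0 := img A hAc hA4 ι hsurj K0 inf_le_left with hM0
  set MG := img A hAc hA4 ι hsurj G0 le_rfl with hMG
  have hMG8 : Nat.card MG ≤ 8 := by
    by_contra h
    have hd := AddSubgroup.card_addSubgroup_dvd_card MG
    rw [show Nat.card M4 = 16 by simp [Nat.card_eq_fintype_card]] at hd
    have hc : Nat.card MG = 16 := by
      have := Nat.le_of_dvd (by norm_num) hd
      obtain ⟨k, hk⟩ := hd
      rcases Nat.lt_or_ge k 2 with h2 | h2
      · interval_cases k <;> omega
      · have : Nat.card MG * 2 ≤ 16 := hk ▸ Nat.mul_le_mul_left _ h2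
        omega
    have htop : MG = ⊤ := AddSubgroup.eq_top_of_card_eq _ (by rw [hc]; simp [Nat.card_eq_fintype_card])
    refine not_full A hAc homega hA4 ι hsurj hP hno fun X => ?_
    exact (htop ▸ AddSubgroup.mem_top X : X ∈ MG)
  have hsub : M0 ≤ MG := fun X ⟨g, hg, he⟩ => ⟨g, hg.1, he⟩
  have hMle : Nat.card M0 ≤ Nat.card MG := Nat.le_of_dvd Nat.card_pos (AddSubgroup.card_dvd_of_le hsub)
  have hrel : C.relIndex L = Nat.card M0 * G0.relIndex L := by
    rw [hM0, ← card_img A hAc hA4 ι hsurj K0 inf_le_left, hK0]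
    change C.relIndex L = C.relIndex (G0 ⊓ L) * G0.relIndex L
    rw [relIndex_inf_mul_relIndex, inf_eq_left.2 hCG]
  have hGL : G0.relIndex L ≤ 2 :=
    (Nat.le_of_dvd (Nat.pos_of_ne_zero index_ne_zero_of_finite) (relIndex_dvd_index_of_normal G0 L)).trans hgi
  obtain ⟨e, f, hN, hf, he, hfdef, hae, haf, hND⟩ := split A hAc hP homega hW L N hsq
  change e ≤ C.relIndex L at he
  change e = C.relIndex L → N ≤ C.subgroupOf L at hND
  by_contra hbig
  push Not at hbig
  have h16 : C.relIndex L ≤ 16 := by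
    have := Nat.mul_le_mul (hMle.trans hMG8) hGL
    omega
  have hfe := pow_facts hae haf (he.trans h16) hf (hN ▸ hbig)
  have hM0pos : Nat.card M0 ≠ 0 := Nat.card_ne_zero.2 ⟨⟨0, zero_mem _⟩, inferInstance⟩
  -- an outer element forces the image to be fixed
  have houter : e = C.relIndex L → G0.relIndex L = 2 →
      ∃ s, s ∈ L ∧ s ∉ G0 ∧ ∀ X ∈ M0, X ∈ Fix (sig A hAc ι hsurj s) := by
    intro heq h2
    obtain ⟨s, hs⟩ : ∃ s : L, (s : P) ∉ G0 := by
      by_contra h
      push Not at h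
      rw [relIndex_eq_one.2 (fun x hx => h ⟨x, hx⟩)] at h2
      omega
    refine ⟨s, s.2, hs, ?_⟩
    rintro X ⟨g, ⟨hg, hgL⟩, rfl⟩
    refine mem_Fix.2 fun v => ?_
    have h : (⟨g, hgL⟩ : L)⁻¹ * (s * ⟨g, hgL⟩ * s⁻¹) ∈ N := by
      have e1 : (⟨g, hgL⟩ : L)⁻¹ * (s * ⟨g, hgL⟩ * s⁻¹)
          = ((⟨g, hgL⟩ : L)⁻¹) ^ 2 * (⟨g, hgL⟩ * s) ^ 2 * (s⁻¹) ^ 2 := by
        simp only [pow_two]; group
      rw [e1]
      exact mul_mem (mul_mem (hsq _) (hsq _)) (hsq _)
    have hc : g⁻¹ * ((s : P) * g * (s : P)⁻¹) ∈ C := hND heq h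
    have hmu := mu_mul A hAc hA4 ι hsurj hg (hCG hc)
    rw [mul_inv_cancel_left, mu_of_mem_centralizer A hAc ι hsurj hc, add_zero] at hmu
    have h1 := mu_conj A hAc hA4 ι hsurj hg s v
    rw [hmu] at h1
    exact h1.symm
  have hbound : ∀ s, s ∉ G0 → (∀ X ∈ M0, X ∈ Fix (sig A hAc ι hsurj s)) → Nat.card M0 ≤ 4 := by
    intro s hs hfix
    rw [← card_Fix _ (invo_sig A hAc ι hsurj hP hs), ← Fintype.card_coe, ← Nat.card_eq_fintype_card]
    exact Nat.card_le_card_of_injective (fun X : M0 => (⟨X.1, hfix X.1 X.2⟩ : {X // X ∈ Fix _}))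
      (fun a b h => Subtype.ext (congrArg Subtype.val h :))
  rcases hfe with ⟨he8, hf4⟩ | he16
  swap
  · -- index sixteen
    obtain ⟨s, -, hs, hfix⟩ := houter (by omega) (by
      rcases Nat.lt_or_ge (G0.relIndex L) 2 with h | h
      · exfalso
        have h1 : G0.relIndex L = 1 := by
          have : G0.relIndex L ≠ 0 := (index_ne_zero_of_finite : (G0.subgroupOf L).index ≠ 0)
          omega
        rw [h1, mul_one] at hrel
        omega
      · omega)
    have := hbound s hs hfix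
    have := Nat.mul_le_mul this hGL
    omega
  -- index eight
  have hexX : ∃ X ∈ M0, Good X ∧ ∀ h v,
      app (sig A hAc ι hsurj h) (app X v) = app X (app (sig A hAc ι hsurj h) v) := by
    have hext : ∀ X s, s ∉ G0 → (∀ v, app (sig A hAc ι hsurj s) (app X v) = app X (app (sig A hAc ι hsurj s) v)) →
        ∀ h v, app (sig A hAc ι hsurj h) (app X v) = app X (app (sig A hAc ι hsurj h) v) := by
      intro X s hs hX h v
      by_cases hh : h ∈ G0
      · rw [sig_of_mem A hAc ι hsurj hh, sig_of_mem A hAc ι hsurj hh]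
      · rw [sig_eq A hAc hP ι hsurj hh hs]; exact hX v
    rcases Nat.lt_or_ge (Nat.card M0) 8 with h8 | h8
    · have hpow : Nat.card M0 ≤ 4 := by
        have hd := AddSubgroup.card_addSubgroup_dvd_card M0
        rw [show Nat.card M4 = 16 by simp [Nat.card_eq_fintype_card]] at hd
        obtain ⟨k, hk⟩ := hd
        rcases Nat.lt_or_ge (Nat.card M0) 5 with h5 | h5
        · omega
        · interval_cases h : Nat.card M0 <;> omega
      have hle := Nat.mul_le_mul hpow hGL
      have hG2 : G0.relIndex L = 2 := by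
        rcases Nat.lt_or_ge (G0.relIndex L) 2 with h | h
        · exfalso
          have := Nat.mul_le_mul hpow (Nat.le_of_lt_succ h)
          omega
        · omega
      obtain ⟨s, -, hs, hfix⟩ := houter (by omega) hG2
      have h4 : Nat.card M0 = 4 := by rw [hG2] at hrel; omega
      have hinv := invo_sig A hAc ι hsurj hP hs
      have hsh := invo_shift _ hinv
      let g : M0 → {X // X ∈ Fix (sig A hAc ι hsurj s)} := fun X => ⟨X.1, hfix X.1 X.2⟩
      have hg : Function.Bijective g := (Nat.bijective_iff_injective_and_card g).2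
        ⟨fun a b h => Subtype.ext (congrArg Subtype.val h :), by
          rw [h4, Nat.card_eq_fintype_card, Fintype.card_coe, card_Fix _ hinv]⟩
      obtain ⟨X, hX⟩ := hg.2 ⟨_, mem_Fix.2 hsh.2⟩
      have h' : X.1 = one4 + sig A hAc ι hsurj s := (congrArg Subtype.val hX :)
      exact ⟨_, h' ▸ X.2, hsh.1, hext _ s hs hsh.2⟩
    · have hM8 : Nat.card M0 = 8 := by omega
      have heqM : M0 = MG := AddSubgroup.eq_of_le_of_card_ge hsub (by omega)
      by_cases hs : ∃ s, s ∉ G0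
      · obtain ⟨s, hs⟩ := hs
        have hinv := invo_sig A hAc ι hsurj hP hs
        refine ⟨_, shift_mem hM8 hinv ?_, (invo_shift _ hinv).1, hext _ s hs (invo_shift _ hinv).2⟩
        intro X hX
        rw [heqM] at hX ⊢
        obtain ⟨g, hg, rfl⟩ := hX
        refine ⟨_, ⟨s * g * s⁻¹, hG0n.conj_mem g hg s, rfl⟩, fun v => ?_⟩
        rw [← mu_conj A hAc hA4 ι hsurj hg s, sig_invol A hAc hP ι hsurj]
      · push Not at hs
        obtain ⟨X, hX, hgood⟩ := exists_good hM8
        exact ⟨X, hX, hgood, fun h v => by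
          rw [sig_of_mem A hAc ι hsurj (hs h), sig_of_mem A hAc ι hsurj (hs h)]⟩
  obtain ⟨X, ⟨g, ⟨hg, hgL⟩, rfl⟩, hgood, hfix⟩ := hexX
  set D := C.subgroupOf L with hD
  set emb : L ↪ P := ⟨Subtype.val, Subtype.val_injective⟩
  set Df := (Finset.univ.filter (fun x : L => x ∈ D)).map emb with hDf
  set Yf := (Finset.univ.filter (fun x : L => x ∈ N ⊓ D)).map emb with hYf
  obtain ⟨c, hc, hc2⟩ := exists_invol A hAc homega hA4 ι hsurj hP hg hgood Df Yf
    (by
      intro c hc
      simp only [hDf, Finset.mem_map, Finset.mem_filter, Finset.mem_univ, true_and] at hc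
      obtain ⟨x, hx, rfl⟩ := hc
      exact hx)
    (by
      intro c hc
      simp only [hDf, Finset.mem_map, Finset.mem_filter, Finset.mem_univ, true_and] at hc
      obtain ⟨x, hx, rfl⟩ := hc
      simp only [hYf, Finset.mem_map, Finset.mem_filter, Finset.mem_univ, true_and]
      refine ⟨(⟨g, hgL⟩ * x) ^ 2, ⟨hsq _, ?_⟩, rfl⟩
      show ((g * (x : P)) ^ 2) ∈ C
      replace hx : (x : P) ∈ C := hx
      refine mem_centralizer_of_mu A hAc hA4 ι hsurj (pow_mem (mul_mem hg (hCG hx)) 2) ?_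
      rw [pow_two, mu_mul A hAc hA4 ι hsurj (mul_mem hg (hCG hx)) (mul_mem hg (hCG hx))]
      exact eq_neg_iff_add_eq_zero.1 (neg_eq4 _).symm)
    (by
      simp only [hYf, Finset.mem_map, Finset.mem_filter, Finset.mem_univ, true_and]
      exact ⟨1, one_mem _, rfl⟩)
    (by
      rw [hYf, hDf, Finset.card_map, Finset.card_map, ← Fintype.card_subtype, ← Fintype.card_subtype,
        ← Nat.card_eq_fintype_card, ← Nat.card_eq_fintype_card]
      change 4 * Nat.card ↥(N ⊓ D) ≤ Nat.card ↥D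
      rw [← card_mul_index ((N ⊓ D).subgroupOf D), Nat.card_congr (subgroupOfEquivOfLe inf_le_right).toEquiv]
      change 4 * Nat.card ↥(N ⊓ D) ≤ Nat.card ↥(N ⊓ D) * (N ⊓ D).relIndex D
      rw [inf_relIndex_right, ← hfdef, hf4, mul_comm])
  simp only [hDf, Finset.mem_map, Finset.mem_filter, Finset.mem_univ, true_and] at hc
  obtain ⟨x, hx, rfl⟩ := hc
  have hxC : (x : P) ∈ C := hx
  have hmu : mu A hAc ι hsurj (g * (x : P)) = mu A hAc ι hsurj g := by
    rw [mu_mul A hAc hA4 ι hsurj hg (hCG hxC), mu_of_mem_centralizer A hAc ι hsurj hxC, add_zero]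
  exact no_invol A hAc homega hA4 ι hsurj hP hno (mul_mem hg (hCG hxC)) hc2 (hmu ▸ hgood) (hmu ▸ hfix)

end big

/-- MacWilliams, in the form of a bound on elementary abelian quotients of subgroups. -/
theorem quotient_bound {P : Type u} [Group P] [Finite P] (hP : IsPGroup 2 P)
    (hno : ∀ B : Subgroup P, B.Normal → IsMulCommutative B → (∀ a ∈ B, a ^ 2 = 1) → Nat.card B ≤ 4)
    (L : Subgroup P) (N : Subgroup L) [N.Normal] (hsq : ∀ x : L, x ^ 2 ∈ N) : N.index ≤ 16 := by
  haveI : Fact (Nat.Prime 2) := ⟨Nat.prime_two⟩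
  obtain ⟨A, ⟨hAn, hAc, hA4⟩, hmax⟩ := (Set.toFinite {A : Subgroup P | A.Normal ∧
      (∀ a ∈ A, ∀ b ∈ A, a * b = b * a) ∧ ∀ a ∈ A, a ^ 4 = 1}).exists_maximal
    ⟨⊥, inferInstance, fun a ha b hb => by rw [mem_bot.1 ha, mem_bot.1 hb],
      fun a ha => by rw [mem_bot.1 ha, one_pow]⟩
  haveI := hAn
  have homega := omega_centralizer hP A hAc hA4 (fun B hB hle hc h4 => hmax ⟨hB, hc, h4⟩ hle)
  haveI := sqW_normal A hAc
  set W := sqW A hAc with hWdef
  have hW : Nat.card W ≤ 4 := hno W inferInstance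
    ⟨⟨fun a b => Subtype.ext (hAc a a.2.1 b b.2.1)⟩⟩ (fun a ha => ha.2)
  let sq : A →* W :=
    { toFun := fun a => ⟨(a : P) ^ 2, pow_mem a.2 2, by rw [← pow_mul]; exact hA4 _ a.2⟩
      map_one' := Subtype.ext (one_pow 2)
      map_mul' := fun a b => Subtype.ext (Commute.mul_pow (hAc _ a.2 _ b.2) 2) }
  obtain ⟨k, hk⟩ := (IsPGroup.iff_card.1 (hP.to_subgroup W))
  have hk2 : k ≤ 2 := (Nat.pow_le_pow_iff_right (le_refl 2)).1 (show 2 ^ k ≤ 2 ^ 2 from hk ▸ hW)
  by_cases h4 : Nat.card W = 4 ∧ Function.Surjective sq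
  · have hkl : IsKleinFour W :=
      { card_four := h4.1
        exponent_two := by
          haveI : Nontrivial W := Finite.one_lt_card_iff_nontrivial.1 (by rw [h4.1]; norm_num)
          exact (Monoid.exponent_eq_prime_iff Nat.prime_two).2 fun g hg => orderOf_eq_prime (Subtype.ext g.2.2) hg }
    have hc4 : Nat.card (Multiplicative K4) = 4 := by rw [Nat.card_eq_fintype_card]; rfl
    obtain ⟨e⟩ := Finite.card_eq.1 (h4.1.trans hc4.symm)
    have hexp : Monoid.exponent (Multiplicative K4) = 2 :=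
      (Monoid.exponent_eq_prime_iff Nat.prime_two).2 fun g hg =>
        orderOf_eq_prime (show g ^ 2 = 1 by revert g; decide) hg
    set ι : W ≃* Multiplicative K4 :=
      IsKleinFour.mulEquiv' (e.trans (Equiv.swap (e 1) 1)) (by simp) hexp
    have hsurj : ∀ w ∈ W, ∃ a ∈ A, a ^ 2 = w := by
      intro w hw
      obtain ⟨a, ha⟩ := h4.2 ⟨w, hw⟩
      exact ⟨a, a.2, congrArg Subtype.val ha⟩
    exact big_case A hAc homega hA4 ι hsurj hP hno hW L N hsq
  · have hi : (centralizer (W : Set P)).index ≤ 2 := centralizer_index hP W hW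
    have hgen : ∃ a0 ∈ A, ∀ a ∈ A, a ∈ W ∨ a0⁻¹ * a ∈ W := by
      have hker : ∀ a : A, a ∈ sq.ker → (a : P) ∈ W := fun a ha => ⟨a.2, congrArg Subtype.val ha⟩
      have hr2 : Nat.card sq.range ≤ 2 := by
        obtain ⟨j, hj⟩ := IsPGroup.iff_card.1 ((hP.to_subgroup W).to_subgroup sq.range)
        have hjk : 2 ^ j ≤ 2 ^ k := hj ▸ hk ▸ Nat.le_of_dvd Nat.card_pos (Subgroup.card_subgroup_dvd_card _)
        rw [hj]
        by_contra hcon
        have hj2 : 2 ≤ j := by
          by_contra hj'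
          exact hcon (Nat.pow_le_pow_right (by norm_num) (by omega : j ≤ 1))
        have hk' : k = 2 := le_antisymm hk2 (hj2.trans ((Nat.pow_le_pow_iff_right (le_refl 2)).1 hjk))
        have hjeq : j = 2 := le_antisymm ((Nat.pow_le_pow_iff_right (le_refl 2)).1 (hk' ▸ hjk)) hj2
        refine h4 ⟨by rw [hk, hk']; rfl, MonoidHom.range_eq_top.1 (Subgroup.eq_top_of_card_eq _ ?_)⟩
        rw [hj, hk, hjeq, hk']
      rcases Nat.lt_or_ge (Nat.card sq.range) 2 with h | h
      · refine ⟨1, one_mem _, fun a ha => Or.inl (hker ⟨a, ha⟩ ?_)⟩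
        have : sq.range = ⊥ := Subgroup.eq_bot_of_card_le _ (by omega)
        rw [MonoidHom.mem_ker]
        have hm : sq ⟨a, ha⟩ ∈ sq.range := ⟨_, rfl⟩
        rw [this, mem_bot] at hm
        exact hm
      · have hidx : sq.ker.index = 2 := by rw [index_ker]; omega
        obtain ⟨a0, ha0⟩ := index_eq_two_iff.1 hidx
        refine ⟨(a0⁻¹ : A), SetLike.coe_mem _, fun a ha => ?_⟩
        rcases ha0 ⟨a, ha⟩ with h | h
        · refine Or.inr (hker (a0⁻¹⁻¹ * ⟨a, ha⟩) ?_)
          have : ((⟨a, ha⟩ : A) * a0) = a0⁻¹⁻¹ * ⟨a, ha⟩ := by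
            rw [inv_inv]; exact Subtype.ext (hAc a ha a0 a0.2)
          exact this ▸ h.1
        · exact Or.inl (hker _ h.1)
    obtain ⟨a0, ha0, hgen⟩ := hgen
    exact small_case A hAc hP homega hW a0 ha0 hA4 hgen hi L N hsq

end Cfsg.Lib.MacWilliams
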