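import Cfsg.Agent.Lib.PGroup.Basic
import Mathlib.GroupTheory.QuotientGroup.Basic

/-!
# 2-groups in which every element of order dividing four is central

Such a group has an elementary abelian quotient of order at most the number of solutions of `x ^ 2 = 1`.
Also: a maximal normal abelian subgroup of exponent four contains every element of order dividing four
of its centralizer.
-/

set_option autoImplicit false
set_option linter.style.haveILetI false

namespace Cfsg.Lib.MacWilliams

open Subgroup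
open scoped Pointwise

universe u

/-- every element of order dividing four is central -/
def OmegaCentral (D : Type u) [Group D] : Prop := ∀ x : D, x ^ 4 = 1 → x ∈ center D

theorem OmegaCentral.sub {D : Type u} [Group D] (h : OmegaCentral D) (K : Subgroup D) : OmegaCentral K := by
  intro x hx
  rw [mem_center_iff]
  intro y
  have hx' : (x : D) ^ 4 = 1 := by rw [← SubmonoidClass.coe_pow, hx, OneMemClass.coe_one]
  exact Subtype.ext (mem_center_iff.1 (h _ hx') (y : D))

theorem pow_two_pow_ne {D : Type u} [Group D] {d : D} {k : ℕ} (hk : d ^ 2 ^ k = 1) (h4 : d ^ 4 ≠ 1) :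
    ∃ j : ℕ, (d ^ (2 * j)) ^ 4 = 1 ∧ (d ^ (2 * j)) ^ 2 ≠ 1 := by
  induction k with
  | zero => rw [pow_zero, pow_one] at hk; exact absurd (by rw [hk, one_pow]) h4
  | succ k ih =>
    by_cases hk' : d ^ 2 ^ k = 1
    · exact ih hk'
    · match k, hk, hk' with
      | 0, hk, _ =>
        rw [pow_one] at hk
        exact absurd (by rw [show 4 = 2 * 2 from rfl, pow_mul, hk, one_pow]) h4
      | 1, hk, _ => exact absurd (by simpa using hk) h4
      | k + 2, hk, hk' =>
        refine ⟨2 ^ k, ?_, ?_⟩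
        · rw [← pow_mul, show 2 * 2 ^ k * 4 = 2 ^ (k + 3) by ring]; exact hk
        · rw [← pow_mul, show 2 * 2 ^ k * 2 = 2 ^ (k + 2) by ring]; exact hk'

theorem commutator_sq : ∀ (n : ℕ) (D : Type u) [Group D] [Finite D], Nat.card D ≤ n → IsPGroup 2 D →
    OmegaCentral D → ∀ x g : D, x ^ 8 = 1 → (x⁻¹ * (g * x * g⁻¹)) ^ 2 = 1 := by
  intro n
  induction n with
  | zero => intro D _ _ hc; exact absurd (Nat.card_pos (α := D)) (by omega)
  | succ n ih =>
    intro D _ _ hcard hD hc x g hx
    haveI : Fact (Nat.Prime 2) := ⟨Nat.prime_two⟩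
    have hs : ∀ y : D, (x ^ 2) * y = y * x ^ 2 := by
      intro y
      exact (mem_center_iff.1 (hc (x ^ 2) (by rw [← pow_mul]; exact hx)) y).symm
    set K := normalClosure ({x} : Set D) with hKdef
    by_cases hK : K = ⊤
    · have htop : zpowers x = ⊤ := by
        by_contra hne
        obtain ⟨M, hM, hxM⟩ := (eq_top_or_exists_le_coatom (zpowers x)).resolve_left hne
        haveI := Cfsg.Lib.PGroup.normal_of_isCoatom hD hM
        have : K ≤ M := normalClosure_le_normal (Set.singleton_subset_iff.2 (hxM (mem_zpowers x)))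
        exact hM.1 (top_le_iff.1 (hK ▸ this))
      obtain ⟨i, rfl⟩ := mem_zpowers_iff.1 (htop ▸ mem_top g)
      rw [← ((Commute.refl x).zpow_right i).eq, mul_inv_cancel_right, inv_mul_cancel, one_pow]
    · have hxK : x ∈ K := subset_normalClosure rfl
      have hcK : Nat.card K ≤ n := by
        have := (Nat.lt_of_le_of_ne (Subgroup.card_le_card_group K) (fun h => hK (eq_top_of_card_eq K h)))
        omega
      set d := x⁻¹ * (g * x * g⁻¹) with hd
      have hdK : d ∈ K := mul_mem (inv_mem hxK) (normalClosure_normal.conj_mem x hxK g)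
      have hxd : x * d = g * x * g⁻¹ := by rw [hd]; group
      have h2 : x * d * (x * d) = x * x := by
        rw [hxd]
        have : g * (x ^ 2) * g⁻¹ = x ^ 2 := by rw [← hs g, mul_inv_cancel_right]
        calc g * x * g⁻¹ * (g * x * g⁻¹) = g * (x ^ 2) * g⁻¹ := by rw [pow_two]; group
          _ = x * x := by rw [this, pow_two]
      have h3 : x⁻¹ * d * x = d⁻¹ := by
        have : d * (x * d) = x := mul_left_cancel (a := x) (by rw [← mul_assoc]; exact h2)
        calc x⁻¹ * d * x = x⁻¹ * (d * (x * d)) * d⁻¹ := by group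
          _ = d⁻¹ := by rw [this]; group
      have key := ih K hcK (hD.to_subgroup K) (hc.sub K) ⟨d, hdK⟩ ⟨x⁻¹, inv_mem hxK⟩
      by_cases hd8 : d ^ 8 = 1
      · have hk : ((⟨d, hdK⟩ : K)⁻¹ * (⟨x⁻¹, inv_mem hxK⟩ * ⟨d, hdK⟩ * (⟨x⁻¹, inv_mem hxK⟩ : K)⁻¹)) ^ 2 = 1 :=
          key (Subtype.ext (by simpa using hd8))
        have hk' : (d⁻¹ * (x⁻¹ * d * x)) ^ 2 = 1 := by simpa [Subtype.ext_iff] using hk
        have h4 : d ^ 4 = 1 := by
          rw [h3, ← pow_two, ← pow_mul, inv_pow, inv_eq_one] at hk'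
          exact hk'
        have := mem_center_iff.1 (hc d h4) x⁻¹
        have h5 : d⁻¹ = d := by
          rw [← h3, this]; group
        rw [pow_two]
        calc d * d = d⁻¹ * d := by rw [h5]
          _ = 1 := inv_mul_cancel d
      · -- a power of order four is both fixed and inverted by `x`
        exfalso
        obtain ⟨k, hk⟩ := hD d
        have h4 : d ^ 4 ≠ 1 := fun h => hd8 (by rw [show 8 = 4 * 2 from rfl, pow_mul, h, one_pow])
        obtain ⟨j, hj1, hj2⟩ := pow_two_pow_ne hk h4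
        have e : x⁻¹ * d ^ (2 * j) * x = (d ^ (2 * j))⁻¹ := by
          have := (conj_pow (a := x⁻¹) (b := d) (i := 2 * j))
          rw [inv_inv, h3, inv_pow] at this
          exact this.symm
        rw [mul_assoc, ← mem_center_iff.1 (hc _ hj1) x, ← mul_assoc, inv_mul_cancel, one_mul] at e
        exact hj2 (by rw [pow_two]; nth_rewrite 1 [e]; exact inv_mul_cancel _)

/-- The solutions of `x ^ 2 = 1`. -/
def om1 {D : Type u} [Group D] (hc : OmegaCentral D) : Subgroup D where
  carrier := {x | x ^ 2 = 1}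
  one_mem' := one_pow 2
  mul_mem' {a b} ha hb := by
    show (a * b) ^ 2 = 1
    have h := mem_center_iff.1 (hc b (by rw [show 4 = 2 * 2 from rfl, pow_mul, show b ^ 2 = 1 from hb, one_pow])) a
    rw [Commute.mul_pow h, show a ^ 2 = 1 from ha, show b ^ 2 = 1 from hb, one_mul]
  inv_mem' {a} ha := by
    show a⁻¹ ^ 2 = 1
    rw [inv_pow, show a ^ 2 = 1 from ha, inv_one]

theorem index_le : ∀ (n : ℕ) (D : Type u) [Group D] [Finite D], Nat.card D ≤ n → IsPGroup 2 D →
    OmegaCentral D → ∀ N : Subgroup D, (∀ x : D, x ^ 2 ∈ N) → N.index ≤ Nat.card {x : D // x ^ 2 = 1} := by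
  intro n
  induction n with
  | zero => intro D _ _ hc; exact absurd (Nat.card_pos (α := D)) (by omega)
  | succ n ih =>
    intro D _ _ hcard hD hc N hsq
    haveI : Fact (Nat.Prime 2) := ⟨Nat.prime_two⟩
    set W := om1 hc with hW
    have hWc : W ≤ center D := fun x hx => hc x (by
      rw [show 4 = 2 * 2 from rfl, pow_mul, show x ^ 2 = 1 from hx, one_pow])
    haveI hWn : W.Normal := ⟨fun x hx g => by
      rw [mem_center_iff.1 (hWc hx) g, mul_inv_cancel_right]; exact hx⟩
    by_cases hle : W ≤ N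
    · rcases subsingleton_or_nontrivial D with hs | hs
      · rw [Subgroup.index_eq_one.2 (Subsingleton.elim N ⊤)]
        haveI : Nonempty {x : D // x ^ 2 = 1} := ⟨⟨1, one_pow 2⟩⟩
        exact Nat.card_pos
      have hW1 : W ≠ ⊥ := by
        intro hb
        obtain ⟨z, -, hz⟩ := Cfsg.Lib.PGroup.exists_mem_center_orderOf_eq hD (N := (⊤ : Subgroup D)) top_ne_bot
        have : z ∈ W := by show z ^ 2 = 1; rw [← hz.2, pow_orderOf_eq_one]
        rw [hb, mem_bot] at this
        rw [this, orderOf_one] at hz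
        exact absurd hz.2 (by norm_num)
      have hlt : Nat.card (D ⧸ W) ≤ n := by
        have h1 := Subgroup.card_eq_card_quotient_mul_card_subgroup W
        have h2 : 2 ≤ Nat.card W := (Subgroup.one_lt_card_iff_ne_bot W).2 hW1
        have h3 : Nat.card (D ⧸ W) * 2 ≤ Nat.card D := h1 ▸ Nat.mul_le_mul_left _ h2
        have := Nat.card_pos (α := D ⧸ W)
        omega
      have hcq : OmegaCentral (D ⧸ W) := by
        intro q hq
        obtain ⟨x, rfl⟩ := QuotientGroup.mk_surjective q
        rw [← QuotientGroup.mk_pow, QuotientGroup.eq_one_iff] at hq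
        have h8 : x ^ 8 = 1 := by rw [show 8 = 4 * 2 from rfl, pow_mul]; exact hq
        rw [mem_center_iff]
        intro q'
        obtain ⟨g, rfl⟩ := QuotientGroup.mk_surjective q'
        rw [← QuotientGroup.mk_mul, ← QuotientGroup.mk_mul, eq_comm, QuotientGroup.eq]
        have h := commutator_sq (n + 1) D hcard hD hc x g h8
        have e : (x * g)⁻¹ * (g * x) = g⁻¹ * (x⁻¹ * (g * x * g⁻¹)) * g⁻¹⁻¹ := by group
        rw [e]
        exact hWn.conj_mem _ h _
      have h1 := ih (D ⧸ W) hlt (hD.to_quotient W) hcq (N.map (QuotientGroup.mk' W)) (by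
        intro q
        obtain ⟨x, rfl⟩ := QuotientGroup.mk_surjective q
        exact ⟨x ^ 2, hsq x, rfl⟩)
      have h2 : N.index = (N.map (QuotientGroup.mk' W)).index := by
        rw [← Subgroup.index_comap_of_surjective _ (QuotientGroup.mk'_surjective W), comap_map_eq,
          QuotientGroup.ker_mk', sup_eq_left.2 hle]
      rw [h2]
      refine h1.trans ?_
      let f : {q : D ⧸ W // q ^ 2 = 1} → {x : D // x ^ 2 = 1} := fun q =>
        ⟨q.1.out ^ 2, by
          have h := q.2
          rw [← q.1.out_eq', ← QuotientGroup.mk_pow, QuotientGroup.eq_one_iff] at h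
          exact h⟩
      refine Nat.card_le_card_of_injective f ?_
      intro q r h
      have hq := q.2
      have hr := r.2
      rw [← q.1.out_eq', ← QuotientGroup.mk_pow, QuotientGroup.eq_one_iff] at hq
      rw [← r.1.out_eq', ← QuotientGroup.mk_pow, QuotientGroup.eq_one_iff] at hr
      have hq4 : q.1.out ^ 4 = 1 := by rw [show 4 = 2 * 2 from rfl, pow_mul]; exact hq
      have e : q.1.out ^ 2 = r.1.out ^ 2 := congrArg Subtype.val h
      have hmem : q.1.out⁻¹ * r.1.out ∈ W := by
        show (q.1.out⁻¹ * r.1.out) ^ 2 = 1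
        have hc2 : Commute q.1.out⁻¹ r.1.out := (Commute.inv_left
          ((mem_center_iff.1 (hc _ hq4) r.1.out).symm : Commute q.1.out r.1.out))
        rw [hc2.mul_pow, inv_pow, e, inv_mul_cancel]
      apply Subtype.ext
      rw [← q.1.out_eq', ← r.1.out_eq', QuotientGroup.eq]
      exact hmem
    · obtain ⟨w, hw, hwN⟩ := SetLike.not_le_iff_exists.1 hle
      obtain ⟨M, ⟨hNM, hwM⟩, hmax⟩ := (Set.toFinite {M : Subgroup D | N ≤ M ∧ w ∉ M}).exists_maximal
        ⟨N, le_rfl, hwN⟩
      have hMn : M.Normal := by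
        refine ⟨fun x hx g => ?_⟩
        have h : x⁻¹ * (g * x * g⁻¹) ∈ M := by
          have e : x⁻¹ * (g * x * g⁻¹) = (x⁻¹) ^ 2 * (x * g) ^ 2 * (g⁻¹) ^ 2 := by
            simp only [pow_two]; group
          rw [e]
          exact mul_mem (mul_mem (hNM (hsq _)) (hNM (hsq _))) (hNM (hsq _))
        have := mul_mem hx h
        rwa [mul_inv_cancel_left] at this
      have hidx : M.index = 2 := by
        rw [Subgroup.index_eq_two_iff]
        refine ⟨w, fun y => ?_⟩
        have hor : y * w ∈ M ∨ y ∈ M := by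
          by_contra hcon
          push Not at hcon
          have hlt : M < M ⊔ zpowers y := left_lt_sup.2 (fun h => hcon.2 (h (mem_zpowers y)))
          have hwy : w ∈ M ⊔ zpowers y := by
            by_contra hn
            exact hlt.not_ge (hmax ⟨hNM.trans le_sup_left, hn⟩ hlt.le)
          rw [← SetLike.mem_coe, Subgroup.normal_mul] at hwy
          obtain ⟨m, hm, z, hz, hmz⟩ := hwy
          obtain ⟨i, rfl⟩ := mem_zpowers_iff.1 hz
          obtain ⟨l, hl | hl⟩ := Int.even_or_odd' i
          · apply hwM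
            rw [← hmz, hl, zpow_mul]
            exact mul_mem hm (zpow_mem (by rw [show y ^ (2 : ℤ) = y ^ 2 from zpow_natCast y 2]; exact hNM (hsq y)) _)
          · apply hcon.1
            have e : y * w = (y * m * y⁻¹) * (y ^ (2 : ℤ)) ^ (l + 1) := by
              rw [← hmz, hl, ← zpow_mul, show (2 : ℤ) * (l + 1) = 1 + (2 * l + 1) by ring,
                zpow_add, zpow_one]
              group
            rw [e]
            exact mul_mem (hMn.conj_mem m hm y)
              (zpow_mem (by rw [show y ^ (2 : ℤ) = y ^ 2 from zpow_natCast y 2]; exact hNM (hsq y)) _)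
        rcases hor with h | h
        · exact Or.inl ⟨h, fun h' => hwM (by simpa using mul_mem (inv_mem h') h)⟩
        · exact Or.inr ⟨h, fun h' => hwM (by simpa using mul_mem (inv_mem h) h')⟩
      have hlt : Nat.card M ≤ n := by
        have := Subgroup.card_mul_index M
        rw [hidx] at this
        have := Nat.card_pos (α := M)
        omega
      have h1 := ih M hlt (hD.to_subgroup M) (hc.sub M) (N.subgroupOf M) (fun x => by
        rw [mem_subgroupOf]; exact hsq x)
      have h2 : N.index = (N.subgroupOf M).index * 2 := by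
        rw [← hidx]; exact (Subgroup.relIndex_mul_index hNM).symm
      let f : {x : M // x ^ 2 = 1} × Bool → {x : D // x ^ 2 = 1} := fun p =>
        ⟨(p.1.1 : D) * cond p.2 w 1, by
          have hx : ((p.1.1 : D)) ^ 2 = 1 := by rw [← SubmonoidClass.coe_pow, p.1.2, OneMemClass.coe_one]
          exact mul_mem (s := W) hx (by cases p.2; exacts [one_mem W, hw])⟩
      have hf : Function.Injective f := by
        rintro ⟨⟨a, ha⟩, b⟩ ⟨⟨a', ha'⟩, b'⟩ h
        have h := congrArg Subtype.val h
        change (a : D) * cond b w 1 = (a' : D) * cond b' w 1 at h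
        have hb : b = b' := by
          cases b <;> cases b' <;> simp only [cond_true, cond_false, mul_one] at h <;> try rfl
          · exact absurd (by have := mul_mem (inv_mem a'.2) a.2; rwa [h, inv_mul_cancel_left] at this) hwM
          · exact absurd (by have := mul_mem (inv_mem a.2) a'.2; rwa [← h, inv_mul_cancel_left] at this) hwM
        subst hb
        simp only [mul_left_inj] at h
        exact congrArg (·, b) (Subtype.ext (Subtype.ext h))
      have h3 := Nat.card_le_card_of_injective f hf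
      rw [Nat.card_prod, Nat.card_eq_fintype_card (α := Bool), Fintype.card_bool] at h3
      rw [h2]
      exact (Nat.mul_le_mul_right 2 h1).trans h3

theorem relIndex_le {G : Type u} [Group G] [Finite G] (hG : IsPGroup 2 G) {D N : Subgroup G}
    (hc : ∀ x ∈ D, x ^ 4 = 1 → ∀ y ∈ D, x * y = y * x) (hsq : ∀ x ∈ D, x ^ 2 ∈ N) {k : ℕ}
    (hk : Nat.card {x : D // x ^ 2 = 1} ≤ k) : N.relIndex D ≤ k := by
  have hc' : OmegaCentral D := by
    intro x hx
    rw [mem_center_iff]
    intro y
    exact Subtype.ext (hc x x.2 (by rw [← SubmonoidClass.coe_pow, hx, OneMemClass.coe_one]) y y.2).symm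
  exact (index_le _ D le_rfl (hG.to_subgroup D) hc' (N.subgroupOf D)
    (fun x => by rw [mem_subgroupOf]; exact hsq x x.2)).trans hk

/-- A maximal normal abelian subgroup of exponent dividing four contains the elements of order dividing
four of its centralizer. -/
theorem omega_centralizer {G : Type u} [Group G] [Finite G] (hG : IsPGroup 2 G) (A : Subgroup G)
    [hAn : A.Normal] (hAc : ∀ a ∈ A, ∀ b ∈ A, a * b = b * a) (hA4 : ∀ a ∈ A, a ^ 4 = 1)
    (hmax : ∀ B : Subgroup G, B.Normal → A ≤ B → (∀ a ∈ B, ∀ b ∈ B, a * b = b * a) →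
      (∀ a ∈ B, a ^ 4 = 1) → B ≤ A) :
    ∀ x ∈ centralizer (A : Set G), x ^ 4 = 1 → x ∈ A := by
  intro x0 hx0 hx04
  by_contra hxA
  haveI : Fact (Nat.Prime 2) := ⟨Nat.prime_two⟩
  haveI : (centralizer (A : Set G)).Normal := by
    refine ⟨fun c hc g => mem_centralizer_iff.2 fun a ha => ?_⟩
    have h := mem_centralizer_iff.1 hc (g⁻¹ * a * g⁻¹⁻¹) (hAn.conj_mem a ha g⁻¹)
    rw [inv_inv] at h
    calc a * (g * c * g⁻¹) = g * ((g⁻¹ * a * g) * c) * g⁻¹ := by group
      _ = g * (c * (g⁻¹ * a * g)) * g⁻¹ := by rw [h]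
      _ = g * c * g⁻¹ * a := by group
  obtain ⟨X, ⟨hXn, hAX, hXC, x, hxX, hx4, hxA⟩, hXmin⟩ :=
    (Set.toFinite {X : Subgroup G | X.Normal ∧ A ≤ X ∧ X ≤ centralizer (A : Set G) ∧
      ∃ x ∈ X, x ^ 4 = 1 ∧ x ∉ A}).exists_minimal ⟨centralizer (A : Set G), inferInstance,
        fun a ha => mem_centralizer_iff.2 (fun b hb => hAc b hb a ha), le_rfl, x0, hx0, hx04, hxA⟩
  obtain ⟨Y, ⟨hYn, hAY, hYX⟩, hYmax⟩ :=
    (Set.toFinite {Y : Subgroup G | Y.Normal ∧ A ≤ Y ∧ Y < X}).exists_maximal
      ⟨A, hAn, le_rfl, lt_of_le_of_ne hAX (fun h => hxA (h ▸ hxX))⟩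
  have hgood : ∀ d ∈ Y, d ^ 4 = 1 → d ∈ A := by
    intro d hd hd4
    by_contra hdA
    exact hYX.not_ge (hXmin ⟨hYn, hAY, hYX.le.trans hXC, d, hd, hd4, hdA⟩ hYX.le)
  have hxY : x ∉ Y := fun h => hxA (hgood x h hx4)
  set π := QuotientGroup.mk' Y with hπ
  have hne : X.map π ≠ ⊥ := by
    intro h
    rw [Subgroup.map_eq_bot_iff, hπ, QuotientGroup.ker_mk'] at h
    exact hxY (h hxX)
  haveI : (X.map π).Normal := hXn.map π (QuotientGroup.mk'_surjective Y)
  obtain ⟨w, hwX, hwc, hw⟩ := Cfsg.Lib.PGroup.exists_mem_center_orderOf_eq (hG.to_quotient Y) hne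
  haveI : (zpowers w).Normal := ⟨fun a ha g => by
    rw [mem_center_iff.1 (zpowers_le.2 hwc ha) g, mul_inv_cancel_right]; exact ha⟩
  have hwX' : (zpowers w).comap π ≤ X := by
    refine (comap_mono (zpowers_le.2 hwX)).trans (le_of_eq ?_)
    rw [comap_map_eq, hπ, QuotientGroup.ker_mk', sup_eq_left]
    exact hYX.le
  have hYw : Y ≤ (zpowers w).comap π := fun y hy => by
    rw [mem_comap, hπ, QuotientGroup.mk'_apply, (QuotientGroup.eq_one_iff y).2 hy]; exact one_mem _
  have hXeq : (zpowers w).comap π = X := by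
    by_contra hne'
    have hle : (zpowers w).comap π ≤ Y :=
      hYmax ⟨inferInstance, hAY.trans hYw, lt_of_le_of_ne hwX' hne'⟩ hYw
    obtain ⟨w', rfl⟩ := QuotientGroup.mk'_surjective Y w
    have : w' ∈ Y := hle (mem_comap.2 (mem_zpowers _))
    rw [QuotientGroup.mk'_apply, (QuotientGroup.eq_one_iff w').2 this, orderOf_one] at hw
    exact absurd hw (by norm_num)
  have hπx : π x ∈ zpowers w := by rw [← mem_comap, hXeq]; exact hxX
  have hx2Y : x ^ 2 ∈ Y := by
    rw [← QuotientGroup.eq_one_iff, ← QuotientGroup.mk'_apply, ← hπ, map_pow]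
    obtain ⟨i, hi⟩ := mem_zpowers_iff.1 hπx
    rw [← hi, ← zpow_natCast, ← zpow_mul, mul_comm, zpow_mul, zpow_natCast,
      show w ^ 2 = 1 by rw [← hw, pow_orderOf_eq_one], one_zpow]
  have ha : x ^ 2 ∈ A := hgood _ hx2Y (by
    rw [← pow_mul, show 2 * 4 = 4 * 2 from rfl, pow_mul, hx4, one_pow])
  have hcA : ∀ a ∈ A, ∀ y ∈ X, a * y = y * a := fun a ha y hy => mem_centralizer_iff.1 (hXC hy) a ha
  have hconj : ∀ g : G, g * x * g⁻¹ ∈ A ⊔ zpowers x := by
    intro g
    set d := x⁻¹ * (g * x * g⁻¹) with hd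
    have hdY : d ∈ Y := by
      rw [← QuotientGroup.eq_one_iff, ← QuotientGroup.mk'_apply, ← hπ, hd, map_mul, map_mul, map_mul,
        map_inv, map_inv]
      have hc : π x ∈ center (G ⧸ Y) := zpowers_le.2 hwc hπx
      rw [mem_center_iff.1 hc (π g), mul_inv_cancel_right, inv_mul_cancel]
    have hdA : d ∈ A := by
      apply hgood d hdY
      by_contra h4
      obtain ⟨k, hk⟩ := hG d
      obtain ⟨j, hj1, hj2⟩ := pow_two_pow_ne hk h4
      have hv : d ^ (2 * j) ∈ A := hgood _ (pow_mem hdY _) hj1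
      set b := g * x ^ 2 * g⁻¹ * (x ^ 2)⁻¹ with hb
      have hbA : b ∈ A := mul_mem (hAn.conj_mem _ ha g) (inv_mem ha)
      have hb2 : b ^ 2 = 1 := by
        have h1 : (g * x ^ 2 * g⁻¹) ^ 2 = 1 := by
          rw [conj_pow, ← pow_mul, show 2 * 2 = 4 from rfl, hx4, mul_one, mul_inv_cancel]
        have h2 : ((x ^ 2)⁻¹) ^ 2 = 1 := by rw [inv_pow, ← pow_mul, show 2 * 2 = 4 from rfl, hx4, inv_one]
        rw [hb, Commute.mul_pow (hAc _ (hAn.conj_mem _ ha g) _ (inv_mem ha)), h1, h2, one_mul]
      have hdx : x * d * x⁻¹ = b * d⁻¹ := by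
        have e1 : x * d * (x * d) = g * x ^ 2 * g⁻¹ := by
          rw [hd, mul_inv_cancel_left, pow_two]; group
        have e2 : d⁻¹ * (x ^ 2)⁻¹ = (x ^ 2)⁻¹ * d⁻¹ :=
          ((Commute.inv_inv (hcA _ ha d (hYX.le hdY)).symm) : _)
        calc x * d * x⁻¹ = x * d * (x * d) * (d⁻¹ * (x ^ 2)⁻¹) := by group
          _ = b * d⁻¹ := by rw [e1, e2, hb, ← mul_assoc]
      have e : x * d ^ (2 * j) * x⁻¹ = (d ^ (2 * j))⁻¹ := by
        rw [← conj_pow, hdx, Commute.mul_pow (hcA b hbA _ (X.inv_mem (hYX.le hdY))), pow_mul b, hb2,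
          one_pow, one_mul, inv_pow]
      rw [← hcA _ hv x hxX, mul_inv_cancel_right] at e
      exact hj2 (by rw [pow_two]; nth_rewrite 1 [e]; exact inv_mul_cancel _)
    rw [show g * x * g⁻¹ = x * d by rw [hd, mul_inv_cancel_left]]
    exact mul_mem (mem_sup_right (mem_zpowers x)) (mem_sup_left hdA)
  set B := A ⊔ zpowers x with hB
  have hBn : B.Normal := by
    refine ⟨fun y hy g => ?_⟩
    have : B ≤ B.comap (MulAut.conj g).toMonoidHom := by
      refine sup_le (fun a ha => ?_) (zpowers_le.2 ?_)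
      · exact mem_sup_left (hAn.conj_mem a ha g)
      · exact hconj g
    exact this hy
  have hset : (B : Set G) = (A : Set G) * (zpowers x : Set G) := Subgroup.normal_mul A (zpowers x)
  have hzX : zpowers x ≤ X := zpowers_le.2 hxX
  have hBc : ∀ a ∈ B, ∀ b ∈ B, a * b = b * a := by
    intro y hy z hz
    rw [← SetLike.mem_coe, hset] at hy hz
    obtain ⟨a, ha', u, hu, rfl⟩ := hy
    obtain ⟨a', ha'', v, hv, rfl⟩ := hz
    obtain ⟨i, rfl⟩ := mem_zpowers_iff.1 hu
    obtain ⟨l, rfl⟩ := mem_zpowers_iff.1 hv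
    have c1 : Commute a (x ^ l) := hcA a ha' _ (hzX hv)
    have c2 : Commute (x ^ i) a' := (hcA a' ha'' _ (hzX hu)).symm
    exact ((Commute.mul_right (hAc a ha' a' ha'') c1).mul_left
      (Commute.mul_right c2 (Commute.zpow_zpow_self x i l))).eq
  have hB4 : ∀ a ∈ B, a ^ 4 = 1 := by
    intro y hy
    rw [← SetLike.mem_coe, hset] at hy
    obtain ⟨a, ha', u, hu, rfl⟩ := hy
    obtain ⟨i, rfl⟩ := mem_zpowers_iff.1 hu
    rw [(show Commute a (x ^ i) from hcA a ha' _ (hzX hu)).mul_pow, hA4 a ha', one_mul, ← zpow_natCast,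
      ← zpow_mul, mul_comm, zpow_mul, zpow_natCast, hx4, one_zpow]
  exact hxA (hmax B hBn le_sup_left hBc hB4 (mem_sup_right (mem_zpowers x)))

end Cfsg.Lib.MacWilliams
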